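import Groth.Agent.Lib.GeomSpread4.Fibres
import Groth.Agent.Lib.FibreTop.Strata

/-!
# EGA IV 9.7.7: geometrically irreducible fibres near a generic point
-/

universe u

open CategoryTheory CategoryTheory.Limits AlgebraicGeometry Topology TensorProduct

set_option backward.isDefEq.respectTransparency.types false

namespace Groth.Agent.GeomSpread4

variable {X Y : Scheme.{u}}

/-- The generic point of the spectrum of a domain. -/
abbrev bot (D : Type u) [CommRing D] [IsDomain D] : Spec (CommRingCat.of D) :=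
  (⟨⊥, Ideal.isPrime_bot⟩ : PrimeSpectrum D)

theorem isAlgClosed_fractionRing_integralClosure (D : Type u) [CommRing D] [IsDomain D] :
    IsAlgClosed (FractionRing ↥(integralClosure D (AlgebraicClosure (FractionRing D)))) := by
  let Ω := AlgebraicClosure (FractionRing D)
  haveI : FaithfulSMul D Ω := (faithfulSMul_iff_algebraMap_injective D Ω).2 (by
    rw [IsScalarTower.algebraMap_eq D (FractionRing D) Ω]
    exact (algebraMap (FractionRing D) Ω).injective.comp (IsFractionRing.injective D _))
  haveI : Algebra.IsAlgebraic D Ω :=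
    (IsFractionRing.comap_isAlgebraic_iff (A := D) (K := FractionRing D) (C := Ω)).2 inferInstance
  haveI : IsFractionRing ↥(integralClosure D Ω) Ω :=
    integralClosure.isFractionRing_of_algebraic
      (fun x hx => FaithfulSMul.algebraMap_injective D Ω (hx.trans (map_zero _).symm))
  exact IsAlgClosed.of_ringEquiv Ω _ (FractionRing.algEquiv ↥(integralClosure D Ω) Ω).symm.toRingEquiv

theorem exists_irreducible_fibres_aux {D A : Type u} [CommRing D] [IsDomain D] [CommRing A] [IsDomain A] [Algebra D A]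
    [Algebra.IsIntegral D A] [IsAlgClosed (FractionRing A)] (hDA : Function.Injective (algebraMap D A))
    (f : X ⟶ Spec (CommRingCat.of D)) [LocallyOfFinitePresentation f] [QuasiCompact f]
    (hgeo : ∀ (L : Type u) [Field L] [Algebra D L], Function.Injective (algebraMap D L) →
      IrreducibleSpace ↥(pullback f (Spec.map (CommRingCat.ofHom (algebraMap D L))))) :
    ∃ d : D, d ≠ 0 ∧ ∀ (L : Type u) [Field L] [Algebra D L], algebraMap D L d ≠ 0 →
      IrreducibleSpace ↥(pullback f (Spec.map (CommRingCat.ofHom (algebraMap D L)))) := by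
  let q : Spec (CommRingCat.of A) ⟶ Spec (CommRingCat.of D) := Spec.map (CommRingCat.ofHom (algebraMap D A))
  -- field points of the cover
  have hcomp : ∀ (L : Type u) [Field L] [Algebra A L] [Algebra D L] [IsScalarTower D A L],
      Spec.map (CommRingCat.ofHom (algebraMap A L)) ≫ q = Spec.map (CommRingCat.ofHom (algebraMap D L)) :=
    fun L _ _ _ _ => by rw [← Spec.map_comp, ← CommRingCat.ofHom_comp, ← IsScalarTower.algebraMap_eq]
  let f' := pullback.snd f q
  obtain ⟨a, ha, hL⟩ := exists_irreducible_fibres_of_isAlgClosed f' (by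
    let L := FractionRing A
    haveI := hgeo L (by rw [IsScalarTower.algebraMap_eq D A L]; exact (IsFractionRing.injective A L).comp hDA)
    rw [(pullbackLeftPullbackSndIso f q _ ≪≫ pullback.congrHom rfl (hcomp L)).hom.homeomorph.irreducibleSpace_iff]
    infer_instance)
  obtain ⟨d, hd, hdne⟩ : ∃ d, d ∈ (Ideal.span {a}).comap (algebraMap D A) ∧ d ≠ 0 := by
    by_contra hcon
    refine Ideal.comap_ne_bot_of_integral_mem (I := Ideal.span {a}) ha (Ideal.subset_span rfl) (Algebra.IsIntegral.isIntegral (R := D) a) ?_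
    exact eq_bot_iff.2 fun x hx => Ideal.mem_bot.2 (by_contra fun h => hcon ⟨x, hx, h⟩)
  refine ⟨d, hdne, fun L _ _ hdL => ?_⟩
  haveI := RingHom.ker_isPrime (algebraMap D L)
  obtain ⟨P, hP, hPp⟩ := Ideal.exists_ideal_over_prime_of_isIntegral_of_isDomain (S := A) (RingHom.ker (algebraMap D L))
    (by rw [(RingHom.injective_iff_ker_eq_bot _).1 hDA]; exact bot_le)
  haveI := hP
  obtain ⟨Ω, _, u, v, -, hv, huv⟩ := Unibr4.exists_common_field (R := D) (⊥ : Ideal L) P
    (show (RingHom.ker (algebraMap D L) : Ideal D) = _ from hPp.symm)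
  letI : Algebra L Ω := u.toAlgebra
  letI : Algebra A Ω := v.toAlgebra
  letI : Algebra D Ω := (u.comp (algebraMap D L)).toAlgebra
  haveI : IsScalarTower D A Ω := IsScalarTower.of_algebraMap_eq fun x => DFunLike.congr_fun huv x
  have haP : algebraMap A Ω a ≠ 0 := fun h0 => hdL (by
    have h1 : a ∈ P := hv.le h0
    have h2 : algebraMap D A d ∈ P := (Ideal.span_singleton_le_iff_mem P).2 h1 hd
    exact hPp.le h2)
  haveI := hL Ω haP
  haveI : IrreducibleSpace ↥(pullback f (Spec.map (CommRingCat.ofHom (algebraMap D Ω)))) := by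
    rw [← (pullbackLeftPullbackSndIso f q _ ≪≫ pullback.congrHom rfl (hcomp Ω)).hom.homeomorph.irreducibleSpace_iff]
    infer_instance
  let s : Spec (CommRingCat.of Ω) ⟶ Spec (CommRingCat.of L) := Spec.map (CommRingCat.ofHom (algebraMap L Ω))
  let tL : Spec (CommRingCat.of L) ⟶ Spec (CommRingCat.of D) := Spec.map (CommRingCat.ofHom (algebraMap D L))
  have hs : s ≫ tL = Spec.map (CommRingCat.ofHom (algebraMap D Ω)) := by
    rw [← Spec.map_comp, ← CommRingCat.ofHom_comp]
  haveI : Surjective s := ⟨fun z => ⟨(IsLocalRing.closedPoint Ω : Spec (CommRingCat.of Ω)),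
    Subsingleton.elim (α := PrimeSpectrum L) _ _⟩⟩
  haveI : IrreducibleSpace ↥(pullback (pullback.snd f tL) s) := by
    rw [(pullbackLeftPullbackSndIso f tL s ≪≫ pullback.congrHom rfl hs).hom.homeomorph.irreducibleSpace_iff]
    infer_instance
  let r := pullback.fst (pullback.snd f tL) s
  haveI : Surjective r := inferInstance
  rw [irreducibleSpace_def, Set.top_eq_univ, ← r.surjective.range_eq, ← Set.image_univ]
  exact (IrreducibleSpace.isIrreducible_univ _).image _ r.continuous.continuousOn

/-- EGA IV 9.7.7 over a domain. -/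
theorem exists_irreducible_fibres {D : Type u} [CommRing D] [IsDomain D]
    (f : X ⟶ Spec (CommRingCat.of D)) [LocallyOfFinitePresentation f] [QuasiCompact f]
    (hgeo : ∀ (L : Type u) [Field L] [Algebra D L], Function.Injective (algebraMap D L) →
      IrreducibleSpace ↥(pullback f (Spec.map (CommRingCat.ofHom (algebraMap D L))))) :
    ∃ d : D, d ≠ 0 ∧ ∀ (L : Type u) [Field L] [Algebra D L], algebraMap D L d ≠ 0 →
      IrreducibleSpace ↥(pullback f (Spec.map (CommRingCat.ofHom (algebraMap D L)))) := by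
  haveI := isAlgClosed_fractionRing_integralClosure D
  refine exists_irreducible_fibres_aux (A := ↥(integralClosure D (AlgebraicClosure (FractionRing D)))) (fun a b hab => ?_) f hgeo
  have h := congrArg Subtype.val hab
  change algebraMap D (AlgebraicClosure (FractionRing D)) a = algebraMap D (AlgebraicClosure (FractionRing D)) b at h
  rw [IsScalarTower.algebraMap_apply D (FractionRing D) (AlgebraicClosure (FractionRing D)) a,
    IsScalarTower.algebraMap_apply D (FractionRing D) (AlgebraicClosure (FractionRing D)) b] at h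
  exact IsFractionRing.injective D _ ((algebraMap (FractionRing D) _).injective h)

/-- EGA IV 9.7.7. -/
theorem exists_geometricallyIrreducible (f : X ⟶ Y) [IrreducibleSpace ↥Y] [LocallyOfFiniteType f] [QuasiCompact f]
    (h : GeometricallyIrreducible (f.fiberToSpecResidueField (genericPoint ↥Y))) :
    ∃ V : Y.Opens, (V : Set Y).Nonempty ∧ GeometricallyIrreducible (f ∣_ V) := by
  obtain ⟨D, _, i, _, hiopen, ⟨x, hx⟩, hfp⟩ := FibDim4.exists_generic_fp f
  have hbot : i (bot D) = genericPoint ↥Y := by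
    have h1 : i (bot D) ⤳ i x :=
      Specializes.map ((PrimeSpectrum.le_iff_specializes (⟨⊥, Ideal.isPrime_bot⟩ : PrimeSpectrum D) x).1 bot_le) i.continuous
    rw [hx] at h1
    exact (h1.antisymm (genericPoint_specializes _)).eq
  haveI := h
  let fD := pullback.snd f i
  haveI := hfp
  obtain ⟨d, hd, hL⟩ := exists_irreducible_fibres (D := D) fD (fun L _ _ hinj => by
    let t : Spec (CommRingCat.of L) ⟶ Spec D := Spec.map (CommRingCat.ofHom (algebraMap D L))
    have ht : ∀ z, (t ≫ i) z = genericPoint ↥Y := fun z => by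
      rw [Scheme.Hom.comp_apply, ← hbot]
      refine congrArg i (PrimeSpectrum.ext (eq_bot_iff.2 fun a ha => Ideal.mem_bot.2 (hinj ?_)))
      have h3 : algebraMap D L a ∈ (z : PrimeSpectrum L).asIdeal := ha
      rw [(Ideal.eq_bot_or_top (z : PrimeSpectrum L).asIdeal).resolve_right (z : PrimeSpectrum L).2.ne_top,
        Ideal.mem_bot] at h3
      rw [h3, map_zero]
    obtain ⟨⟨y, φ⟩, hyφ⟩ := (Scheme.SpecToEquivOfField L Y).symm.surjective (t ≫ i)
    change Spec.map φ ≫ Y.fromSpecResidueField y = t ≫ i at hyφ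
    obtain rfl : y = genericPoint ↥Y := by
      rw [← ht (IsLocalRing.closedPoint L : Spec (CommRingCat.of L)), ← hyφ, Scheme.Hom.comp_apply,
        Scheme.fromSpecResidueField_apply]
    rw [(pullbackLeftPullbackSndIso f i t ≪≫ pullback.congrHom rfl hyφ.symm ≪≫
      (pullbackLeftPullbackSndIso f (Y.fromSpecResidueField _) (Spec.map φ)).symm).hom.homeomorph.irreducibleSpace_iff]
    exact (geometrically_iff_of_isClosedUnderIsomorphisms.1 h.geometrically_irreducibleSpace) L (Spec.map φ))
  have hiemb : IsOpenEmbedding i := ⟨i.isEmbedding, hiopen⟩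
  refine ⟨⟨i '' (PrimeSpectrum.basicOpen d : Set (PrimeSpectrum D)),
    hiemb.isOpenMap _ (PrimeSpectrum.basicOpen d).2⟩, ⟨_, bot D, ?_, rfl⟩, ⟨?_⟩⟩
  · exact fun h0 => hd (Ideal.mem_bot.1 h0)
  refine geometrically_iff_of_isClosedUnderIsomorphisms.2 fun K _ y => ?_
  let V : Y.Opens := ⟨i '' (PrimeSpectrum.basicOpen d : Set (PrimeSpectrum D)),
    hiemb.isOpenMap _ (PrimeSpectrum.basicOpen d).2⟩
  show IrreducibleSpace ↥(pullback (f ∣_ V) y)
  let e : pullback (f ∣_ V) y ≅ pullback f (y ≫ V.ι) :=
    (((IsPullback.of_hasPullback (f ∣_ V) y).flip.paste_vert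
      (isPullback_morphismRestrict f V)).flip.isoPullback)
  rw [e.hom.homeomorph.irreducibleSpace_iff]
  obtain ⟨⟨y₀, φ⟩, hyφ⟩ := (Scheme.SpecToEquivOfField K Y).symm.surjective (y ≫ V.ι)
  change Spec.map φ ≫ Y.fromSpecResidueField y₀ = y ≫ V.ι at hyφ
  obtain ⟨p, hp, rfl⟩ : ∃ p, p ∈ (PrimeSpectrum.basicOpen d : Set (PrimeSpectrum D)) ∧ i p = y₀ := by
    have h1 : y₀ = (y ≫ V.ι) (IsLocalRing.closedPoint K : Spec (CommRingCat.of K)) := by
      rw [← hyφ, Scheme.Hom.comp_apply, Scheme.fromSpecResidueField_apply]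
    obtain ⟨p, hp, hpe⟩ : V.ι (y (IsLocalRing.closedPoint K : Spec (CommRingCat.of K))) ∈
        i '' (PrimeSpectrum.basicOpen d : Set (PrimeSpectrum D)) := (y _).2
    exact ⟨p, hp, hpe.trans h1.symm⟩
  haveI := FibreTop.isIso_residueFieldMap_of_isPreimmersion i p
  obtain ⟨ψ, hψ⟩ := Spec.map_surjective (Spec.map φ ≫ inv (Spec.map (i.residueFieldMap p)) ≫ (Spec D).fromSpecResidueField p)
  have hy : y ≫ V.ι = Spec.map ψ ≫ i := by
    rw [hψ, ← hyφ, Category.assoc, Category.assoc, ← Scheme.Hom.SpecMap_residueFieldMap_fromSpecResidueField i p,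
      IsIso.inv_hom_id_assoc]
  letI : Algebra D K := ψ.hom.toAlgebra
  have hψp : algebraMap D K d ≠ 0 := fun h0 => hp (by
    have h1 : (Spec.map ψ) (IsLocalRing.closedPoint K : Spec (CommRingCat.of K)) = p := by
      rw [hψ]
      simp only [Scheme.Hom.comp_apply, Scheme.fromSpecResidueField_apply]
    rw [← h1]
    show algebraMap D K d ∈ (IsLocalRing.closedPoint K : PrimeSpectrum K).asIdeal
    rw [h0]
    exact zero_mem _)
  haveI := hL K hψp
  rw [(pullback.congrHom rfl hy ≪≫ (pullbackLeftPullbackSndIso f i (Spec.map ψ)).symm).hom.homeomorph.irreducibleSpace_iff]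
  exact this

end Groth.Agent.GeomSpread4
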