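import Groth.Agent.Lib.GeomSpread4.Strata
import Groth.Agent.Lib.GeomIrr18.Roof
import Groth.Agent.Lib.ConsH13.Engine
import Groth.Prelude.Def_MoreMor

/-!
# Numbers of geometric components (EGA IV 9.7.8)
-/

universe u

open CategoryTheory CategoryTheory.Limits AlgebraicGeometry Topology TopologicalSpace

set_option backward.isDefEq.respectTransparency.types false

namespace Groth.Agent.GeomSpread4

theorem encard_eq_toENat {α : Type*} (s : Set α) : s.encard = Cardinal.toENat (Cardinal.mk ↥s) := rfl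

theorem mk_eq_of_iso {X Y : Scheme.{u}} (e : X ≅ Y) :
    Cardinal.mk ↥(irreducibleComponents ↥X) = Cardinal.mk ↥(irreducibleComponents ↥Y) ∧
      Cardinal.mk (_root_.ConnectedComponents ↥X) = Cardinal.mk (_root_.ConnectedComponents ↥Y) :=
  ⟨le_antisymm (GeomIrr.mk_irreducibleComponents_le e.inv) (GeomIrr.mk_irreducibleComponents_le e.hom),
    le_antisymm (GeomIrr.mk_connectedComponents_le e.inv) (GeomIrr.mk_connectedComponents_le e.hom)⟩

/-- Geometric component numbers can be computed at any separably closed field point. -/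
theorem count_point {X Y : Scheme.{u}} (f : X ⟶ Y) {L : Type u} [Field L] [IsSepClosed L]
    (y : Spec (CommRingCat.of L) ⟶ Y) :
    MoreMor.nGeomIrredComp f (y (IsLocalRing.closedPoint L)) = (irreducibleComponents ↥(pullback f y)).encard ∧
      MoreMor.nGeomConnComp f (y (IsLocalRing.closedPoint L)) =
        ENat.card (_root_.ConnectedComponents ↥(pullback f y)) := by
  obtain ⟨⟨s, φ⟩, hφ⟩ := (Scheme.SpecToEquivOfField L Y).symm.surjective y
  change Spec.map φ ≫ Y.fromSpecResidueField s = y at hφ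
  subst hφ
  rw [show (Spec.map φ ≫ Y.fromSpecResidueField s) (IsLocalRing.closedPoint L : Spec (CommRingCat.of L)) = s from by
    rw [Scheme.Hom.comp_apply, Scheme.fromSpecResidueField_apply]]
  letI : Algebra (Y.residueField s) L := φ.hom.toAlgebra
  let Ω := SeparableClosure (Y.residueField s)
  let t : Spec (CommRingCat.of L) ⟶ Spec (CommRingCat.of (Y.residueField s)) :=
    Spec.map (CommRingCat.ofHom (algebraMap (Y.residueField s) L))
  let g : f.fiber s ⟶ Spec (CommRingCat.of (Y.residueField s)) := f.fiberToSpecResidueField s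
  let e : pullback g t ≅ pullback f (Spec.map φ ≫ Y.fromSpecResidueField s) :=
    pullbackLeftPullbackSndIso f (Y.fromSpecResidueField s) t
  constructor
  · rw [show (irreducibleComponents ↥(pullback f (Spec.map φ ≫ Y.fromSpecResidueField s))).encard =
        Cardinal.toENat (Cardinal.mk ↥(irreducibleComponents ↥(pullback g t))) from
      congrArg Cardinal.toENat (mk_eq_of_iso e).1.symm]
    exact congrArg Cardinal.toENat (le_antisymm (GeomIrr.mk_irreducibleComponents_bc_le g Ω L)
      (GeomIrr.mk_irreducibleComponents_bc_le g L Ω))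
  · rw [show ENat.card (_root_.ConnectedComponents ↥(pullback f (Spec.map φ ≫ Y.fromSpecResidueField s))) =
        Cardinal.toENat (Cardinal.mk (_root_.ConnectedComponents ↥(pullback g t))) from
      congrArg Cardinal.toENat (mk_eq_of_iso e).2.symm]
    exact congrArg Cardinal.toENat (le_antisymm (GeomIrr.mk_connectedComponents_bc_le g Ω L)
      (GeomIrr.mk_connectedComponents_bc_le g L Ω))

theorem count_baseChange {X Y X' Y' : Scheme.{u}} {f : X ⟶ Y} {f' : X' ⟶ Y'} {g' : X' ⟶ X} {g : Y' ⟶ Y}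
    (hc : IsPullback g' f' f g) (y' : Y') :
    MoreMor.nGeomIrredComp f' y' = MoreMor.nGeomIrredComp f (g y') ∧
      MoreMor.nGeomConnComp f' y' = MoreMor.nGeomConnComp f (g y') := by
  let L := AlgebraicClosure (Y'.residueField y')
  let t : Spec (CommRingCat.of L) ⟶ Y' :=
    Spec.map (CommRingCat.ofHom (algebraMap (Y'.residueField y') L)) ≫ Y'.fromSpecResidueField y'
  have ht : t (IsLocalRing.closedPoint L) = y' := by
    show (Spec.map _ ≫ Y'.fromSpecResidueField y') _ = y'
    rw [Scheme.Hom.comp_apply, Scheme.fromSpecResidueField_apply]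
  obtain ⟨h1, h1'⟩ := count_point f' t
  obtain ⟨h2, h2'⟩ := count_point f (t ≫ g)
  rw [ht] at h1 h1'
  rw [Scheme.Hom.comp_apply, ht] at h2 h2'
  let e : pullback f' t ≅ pullback f (t ≫ g) :=
    ((IsPullback.of_hasPullback f' t).paste_horiz hc).isoPullback
  rw [h1, h2, h1', h2']
  exact ⟨congrArg Cardinal.toENat (mk_eq_of_iso e).1, congrArg Cardinal.toENat (mk_eq_of_iso e).2⟩

section Top

variable {α : Type u} [TopologicalSpace α] {ι : Type u} [Finite ι] {Z : ι → Set α}

theorem encard_irreducibleComponents (hZ : ∀ i, IsClosed (Z i)) (hirr : ∀ i, IsIrreducible (Z i))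
    (hcov : ∀ x, ∃ i, x ∈ Z i) (hsub : ∀ i j, Z i ⊆ Z j → i = j) :
    (irreducibleComponents α).encard = ENat.card ι := by
  classical
  have hmax : ∀ S : Set α, IsPreirreducible S → (∃ i, S ⊆ Z i) ∨ S = ∅ := by
    intro S hS
    rcases S.eq_empty_or_nonempty with h | ⟨x, hx⟩
    · exact .inr h
    · refine .inl ?_
      letI := Fintype.ofFinite ι
      obtain ⟨z, hz, hz'⟩ := isIrreducible_iff_sUnion_isClosed.1 ⟨⟨x, hx⟩, hS⟩ (Finset.univ.image Z)
        (fun z hz => by obtain ⟨i, -, rfl⟩ := Finset.mem_image.1 hz; exact hZ i)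
        (fun y _ => by obtain ⟨i, hi⟩ := hcov y; exact ⟨Z i, by simp, hi⟩)
      obtain ⟨i, -, rfl⟩ := Finset.mem_image.1 hz
      exact ⟨i, hz'⟩
  have h : irreducibleComponents α = Set.range Z := by
    ext S
    constructor
    · intro hS
      obtain ⟨i, hi⟩ | hi := hmax S hS.1.isPreirreducible
      · exact ⟨i, Set.Subset.antisymm (hS.2 (hirr i) hi) hi⟩
      · exact absurd hi hS.1.nonempty.ne_empty
    · rintro ⟨i, rfl⟩
      refine ⟨hirr i, fun T hT hle => ?_⟩
      obtain ⟨j, hj⟩ | hj := hmax T hT.isPreirreducible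
      · obtain rfl := hsub i j (hle.trans hj)
        exact hj
      · exact absurd hj hT.nonempty.ne_empty
  rw [h, ← Set.image_univ, Function.Injective.encard_image (f := Z) (fun i j hij => hsub i j hij.le), Set.encard_univ]

theorem card_connectedComponents (hZ : ∀ i, IsClosed (Z i)) (hirr : ∀ i, IsIrreducible (Z i))
    (hcov : ∀ x, ∃ i, x ∈ Z i) :
    ENat.card (_root_.ConnectedComponents α) = ENat.card (Quot fun i j => (Z i ∩ Z j).Nonempty) := by
  choose x hx using fun i => (hirr i).nonempty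
  have hrel : ∀ {i a}, a ∈ Z i → ConnectedComponents.mk a = ConnectedComponents.mk (x i) := fun {i a} ha =>
    ConnectedComponents.coe_eq_coe'.2 ((hirr i).isPreirreducible.isPreconnected.subset_connectedComponent (hx i) ha)
  let ψ : Quot (fun i j => (Z i ∩ Z j).Nonempty) → _root_.ConnectedComponents α :=
    Quot.lift (fun i => ConnectedComponents.mk (x i)) fun i j ⟨a, ha, ha'⟩ => (hrel ha).symm.trans (hrel ha')
  refine (ENat.card_congr (Equiv.ofBijective ψ ⟨?_, ?_⟩)).symm
  · intro c c'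
    induction c using Quot.ind with | _ i => ?_
    induction c' using Quot.ind with | _ j => ?_
    intro hij
    let U : Set α := ⋃ k : {k : ι // Quot.mk (fun i j => (Z i ∩ Z j).Nonempty) k = Quot.mk _ i}, Z k.1
    have hU : IsClopen U := by
      refine ⟨isClosed_iUnion_of_finite fun k => hZ _, ?_⟩
      rw [← isClosed_compl_iff]
      rw [show Uᶜ = ⋃ k : {k : ι // Quot.mk (fun i j => (Z i ∩ Z j).Nonempty) k ≠ Quot.mk _ i}, Z k.1 from ?_]
      · exact isClosed_iUnion_of_finite fun k => hZ _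
      ext a
      simp only [U, Set.mem_compl_iff, Set.mem_iUnion, Subtype.exists, exists_prop, not_exists, not_and]
      refine ⟨fun ha => ?_, fun ⟨k, hk, hak⟩ l hl hal => hk ((Quot.sound ⟨a, hak, hal⟩).trans hl)⟩
      obtain ⟨k, hk⟩ := hcov a
      exact ⟨k, fun h => ha k h hk, hk⟩
    have h1 : connectedComponent (x i) ⊆ U :=
      hU.connectedComponent_subset (Set.mem_iUnion.2 ⟨⟨i, rfl⟩, hx i⟩)
    obtain ⟨⟨k, hk⟩, hjk⟩ := Set.mem_iUnion.1 (h1 (ConnectedComponents.coe_eq_coe'.1 hij.symm))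
    exact hk.symm.trans (Quot.sound ⟨x j, hjk, hx j⟩)
  · intro c
    obtain ⟨a, rfl⟩ := ConnectedComponents.surjective_coe c
    obtain ⟨i, hi⟩ := hcov a
    exact ⟨Quot.mk _ i, (hrel hi).symm⟩

end Top

theorem exists_algClosed_point {A : Type u} [CommRing A] (z : Spec (CommRingCat.of A)) :
    ∃ (L : Type u) (_ : Field L) (_ : IsAlgClosed L) (_ : Algebra A L), tpt A L (IsLocalRing.closedPoint L) = z ∧
      ∀ a, a ∉ (z : PrimeSpectrum A).asIdeal → algebraMap A L a ≠ 0 := by
  let K := (z : PrimeSpectrum A).asIdeal.ResidueField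
  let L := AlgebraicClosure K
  letI : Algebra A L := ((algebraMap K L).comp (algebraMap A K)).toAlgebra
  refine ⟨L, inferInstance, inferInstance, inferInstance, PrimeSpectrum.ext ?_, fun a ha => ?_⟩
  · show (IsLocalRing.maximalIdeal L).comap ((algebraMap K L).comp (algebraMap A K)) = _
    rw [IsLocalRing.maximalIdeal_eq_bot, ← Ideal.comap_comap, Ideal.comap_bot_of_injective _ (algebraMap K L).injective,
      ← RingHom.ker_eq_comap_bot, Ideal.ker_algebraMap_residueField]
  · show algebraMap K L (algebraMap A K a) ≠ 0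
    rw [ne_eq, map_eq_zero, Ideal.algebraMap_residueField_eq_zero]
    exact ha

/-- The component numbers are constant near a point of its closure. -/
theorem exists_count_const {X Y : Scheme.{u}} (f : X ⟶ Y) [LocallyOfFiniteType f] [QuasiCompact f] (y : Y) :
    ∃ U : Y.Opens, y ∈ U ∧ ∀ y' ∈ closure ({y} : Set Y) ∩ (U : Set Y),
      MoreMor.nGeomIrredComp f y' = MoreMor.nGeomIrredComp f y ∧
        MoreMor.nGeomConnComp f y' = MoreMor.nGeomConnComp f y := by
  obtain ⟨W, hW, hyW, -⟩ := exists_isAffineOpen_mem_and_subset (X := Y) (x := y) (U := ⊤) trivial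
  let p := hW.primeIdealOf ⟨y, hyW⟩
  have hp : hW.fromSpec p = y := hW.fromSpec_primeIdealOf ⟨y, hyW⟩
  let D := Γ(Y, W) ⧸ (p : PrimeSpectrum Γ(Y, W)).asIdeal
  let i : Spec (CommRingCat.of D) ⟶ Y :=
    Spec.map (CommRingCat.ofHom (Ideal.Quotient.mk (p : PrimeSpectrum Γ(Y, W)).asIdeal)) ≫ hW.fromSpec
  let Ω := AlgebraicClosure (FractionRing D)
  let A := ↥(integralClosure D Ω)
  haveI := isAlgClosed_fractionRing_integralClosure D
  have hDA : Function.Injective (algebraMap D A) := fun a b hab => by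
    have h := congrArg Subtype.val hab
    change algebraMap D Ω a = algebraMap D Ω b at h
    rw [IsScalarTower.algebraMap_apply D (FractionRing D) Ω a,
      IsScalarTower.algebraMap_apply D (FractionRing D) Ω b] at h
    exact IsFractionRing.injective D _ ((algebraMap (FractionRing D) _).injective h)
  let q : Spec (CommRingCat.of A) ⟶ Spec (CommRingCat.of D) := Spec.map (CommRingCat.ofHom (algebraMap D A))
  let f' := pullback.snd f (q ≫ i)
  obtain ⟨ι, _, Z, d, hd, hZ, hL⟩ := exists_strata f'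
  have hcount : ∀ z : Spec (CommRingCat.of A), d ∉ (z : PrimeSpectrum A).asIdeal →
      MoreMor.nGeomIrredComp f' z = ENat.card ι ∧ MoreMor.nGeomConnComp f' z =
        ENat.card (Quot fun i j : ι => ∃ x ∈ Z i ∩ Z j, f' x = bot A) := by
    intro z hz
    obtain ⟨L, _, _, _, hzt, hne⟩ := exists_algClosed_point z
    obtain ⟨h1, h2, h3, h4⟩ := hL L (hne d hz)
    obtain ⟨hc1, hc2⟩ := count_point f' (tpt A L)
    rw [hzt] at hc1 hc2
    have hcl : ∀ i, IsClosed (pullback.fst f' (tpt A L) ⁻¹' Z i) :=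
      fun i => (hZ i).preimage (pullback.fst f' (tpt A L)).continuous
    refine ⟨hc1.trans (encard_irreducibleComponents hcl h1 h2 h3), hc2.trans ?_⟩
    rw [card_connectedComponents hcl h1 h2]
    exact ENat.card_congr (Quot.congrRight fun i j => (Set.preimage_inter ▸ h4 i j : _))
  obtain ⟨a, ha, hane⟩ : ∃ a, a ∈ (Ideal.span {d}).comap (algebraMap D A) ∧ a ≠ 0 := by
    by_contra hcon
    refine Ideal.comap_ne_bot_of_integral_mem (I := Ideal.span {d}) hd (Ideal.subset_span rfl)
      (Algebra.IsIntegral.isIntegral (R := D) d) ?_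
    exact eq_bot_iff.2 fun x hx => Ideal.mem_bot.2 (by_contra fun h => hcon ⟨x, hx, h⟩)
  obtain ⟨a', rfl⟩ := Ideal.Quotient.mk_surjective a
  have hi : ∀ r : Spec (CommRingCat.of D), ∀ hr : a' ∉ ((r : PrimeSpectrum D).asIdeal.comap (Ideal.Quotient.mk _)),
      MoreMor.nGeomIrredComp f (i r) = ENat.card ι ∧ MoreMor.nGeomConnComp f (i r) =
        ENat.card (Quot fun i j : ι => ∃ x ∈ Z i ∩ Z j, f' x = bot A) := by
    intro r hr
    obtain ⟨P, hP, hPr⟩ := Ideal.exists_ideal_over_prime_of_isIntegral_of_isDomain (S := A)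
      (r : PrimeSpectrum D).asIdeal (by rw [(RingHom.injective_iff_ker_eq_bot _).1 hDA]; exact bot_le)
    let z : Spec (CommRingCat.of A) := (⟨P, hP⟩ : PrimeSpectrum A)
    have hdz : d ∉ P := fun h => hr (hPr.le ((Ideal.span_singleton_le_iff_mem P).2 h ha))
    have hqz : (q ≫ i) z = i r := by
      rw [Scheme.Hom.comp_apply]
      exact congrArg i (PrimeSpectrum.ext hPr)
    have hb := count_baseChange (IsPullback.of_hasPullback f (q ≫ i)) z
    rw [hqz] at hb
    exact ⟨hb.1.symm.trans (hcount z hdz).1, hb.2.symm.trans (hcount z hdz).2⟩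
  refine ⟨⟨hW.fromSpec '' (PrimeSpectrum.basicOpen a' : Set (PrimeSpectrum Γ(Y, W))),
    hW.fromSpec.isOpenEmbedding.isOpenMap _ (PrimeSpectrum.basicOpen a').2⟩, ⟨p, fun h => hane ?_, hp⟩, ?_⟩
  · exact Ideal.Quotient.eq_zero_iff_mem.2 h
  have hlift : ∀ P : Spec Γ(Y, W), (p : PrimeSpectrum Γ(Y, W)).asIdeal ≤ (P : PrimeSpectrum Γ(Y, W)).asIdeal →
      a' ∉ (P : PrimeSpectrum Γ(Y, W)).asIdeal → MoreMor.nGeomIrredComp f (hW.fromSpec P) = ENat.card ι ∧
      MoreMor.nGeomConnComp f (hW.fromSpec P) = ENat.card (Quot fun i j : ι => ∃ x ∈ Z i ∩ Z j, f' x = bot A) := by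
    intro P hle haP
    obtain ⟨r, rfl⟩ : P ∈ Set.range (PrimeSpectrum.comap (Ideal.Quotient.mk (p : PrimeSpectrum Γ(Y, W)).asIdeal)) := by
      rw [range_comap_of_surjective _ _ Ideal.Quotient.mk_surjective, Ideal.mk_ker]
      exact hle
    exact hi r haP
  rintro _ ⟨hy', P, hP, rfl⟩
  have hle : (p : PrimeSpectrum Γ(Y, W)).asIdeal ≤ (P : PrimeSpectrum Γ(Y, W)).asIdeal := by
    rw [PrimeSpectrum.asIdeal_le_asIdeal, PrimeSpectrum.le_iff_specializes]
    show @Specializes ↥(Spec Γ(Y, W)) _ p P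
    rw [← hW.fromSpec.isOpenEmbedding.isInducing.specializes_iff, specializes_iff_mem_closure, hp]
    exact hy'
  obtain ⟨b1, b2⟩ := hlift P hle hP
  obtain ⟨b1', b2'⟩ := hlift p le_rfl (fun h => hane (Ideal.Quotient.eq_zero_iff_mem.2 h))
  rw [hp] at b1' b2'
  exact ⟨b1.trans b1'.symm, b2.trans b2'.symm⟩

/-- The sets of given component numbers are locally constructible. -/
theorem isLocallyConstructible_count (φ : ∀ {X Y : Scheme.{u}}, (X ⟶ Y) → Y → ℕ∞)
    (hbc : ∀ {X Y X' Y' : Scheme.{u}} {f : X ⟶ Y} {f' : X' ⟶ Y'} {g' : X' ⟶ X} {g : Y' ⟶ Y},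
      IsPullback g' f' f g → ∀ y', φ f' y' = φ f (g y'))
    (hconst : ∀ {X Y : Scheme.{u}} (f : X ⟶ Y) [LocallyOfFiniteType f] [QuasiCompact f] (y : Y),
      ∃ U : Y.Opens, y ∈ U ∧ ∀ y' ∈ closure ({y} : Set Y) ∩ (U : Set Y), φ f y' = φ f y)
    {X Y : Scheme.{u}} (f : X ⟶ Y) [LocallyOfFinitePresentation f] [QuasiCompact f] [QuasiSeparated f] (n : ℕ∞) :
    IsLocallyConstructible {y : Y | φ f y = n} := by
  refine ConsH13.isLocallyConstructible_of_affine _ fun A σ _ => ?_
  let u := pullback.snd f σ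
  rw [show σ ⁻¹' {y : Y | φ f y = n} = {s | φ u s = n} from
    Set.ext fun s => by rw [Set.mem_preimage, Set.mem_setOf_eq, ← hbc (IsPullback.of_hasPullback f σ) s]; rfl]
  obtain ⟨R, hR, π, X', -, u', -, qX, -, i1, i2, -, -, sX, -⟩ := ConsH13.exists_noetherian_model_pair A u u
  haveI := i1
  haveI := i2
  rw [show {s | φ u s = n} = π ⁻¹' {s | φ u' s = n} from
    Set.ext fun s => by rw [Set.mem_preimage, Set.mem_setOf_eq, Set.mem_setOf_eq, hbc sX s]]
  refine π.isConstructible_preimage (ConsH13.isConstructible_of_generic _ fun Z hZ hZc => ?_)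
  have hg := hZ.isGenericPoint_genericPoint_closure
  rw [hZc.closure_eq] at hg
  obtain ⟨U, hzU, hU⟩ := hconst u' hZ.genericPoint
  refine ⟨U, U.2, ⟨_, hg.mem, hzU⟩, ?_⟩
  by_cases h : φ u' hZ.genericPoint = n
  · exact .inl fun y hy => (hU y ⟨hg.def.ge hy.1, hy.2⟩).trans h
  · exact .inr fun y hy hyn => h ((hU y ⟨hg.def.ge hy.1, hy.2⟩).symm.trans hyn)

end Groth.Agent.GeomSpread4
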