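import Groth.Agent.Lib.GeomSpread4.Poly
import Groth.Agent.Lib.FibDim4.GenericFP
import Groth.Agent.Lib.Unibr4.Basic
import Mathlib.RingTheory.Spectrum.Prime.Chevalley
import Mathlib.RingTheory.MvPolynomial.Localization
import Mathlib.FieldTheory.SeparablyGenerated
import Mathlib.RingTheory.UniqueFactorizationDomain.Ideal

/-!
# Geometrically irreducible fibres near the generic point: the affine core (EGA IV 9.7.7)
-/

universe u

open MvPolynomial TensorProduct Topology

namespace Groth.Agent.GeomSpread4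

/-- In a polynomial ring over a UFD a prime meeting the coefficients in zero is generated by any of its prime elements. -/
theorem polynomial_prime_eq_span {R : Type u} [CommRing R] [IsDomain R] [UniqueFactorizationMonoid R]
    (P : Ideal (Polynomial R)) [P.IsPrime] (hP : ∀ r : R, Polynomial.C r ∈ P → r = 0) {G : Polynomial R}
    (hG : Prime G) (hGP : G ∈ P) : P = Ideal.span {G} := by
  let F := FractionRing R
  letI : Algebra (Polynomial R) (Polynomial F) := Polynomial.algebra R F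
  let M : Submonoid (Polynomial R) := (nonZeroDivisors R).map (Polynomial.C : R →+* Polynomial R)
  haveI : IsLocalization M (Polynomial F) := Polynomial.isLocalization (nonZeroDivisors R) F
  haveI hspan : (Ideal.span {G}).IsPrime := (Ideal.span_singleton_prime hG.ne_zero).2 hG
  have hdisj : ∀ (J : Ideal (Polynomial R)), J ≤ P → Disjoint (M : Set (Polynomial R)) J := fun J hJ => by
    rw [Set.disjoint_left]
    rintro _ ⟨r, hr, rfl⟩ hrJ
    exact nonZeroDivisors.ne_zero hr (hP r (hJ hrJ))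
  have hle : Ideal.span {G} ≤ P := (Ideal.span_singleton_le_iff_mem _).2 hGP
  have h1 := IsLocalization.isPrime_of_isPrime_disjoint M (Polynomial F) _ hspan (hdisj _ hle)
  have h2 := IsLocalization.isPrime_of_isPrime_disjoint M (Polynomial F) P ‹_› (hdisj _ le_rfl)
  have h0 : (Ideal.span {G}).map (algebraMap (Polynomial R) (Polynomial F)) ≠ ⊥ := by
    rw [Ideal.map_span, Set.image_singleton, ne_eq, Ideal.span_singleton_eq_bot]
    show Polynomial.mapRingHom (algebraMap R F) G ≠ 0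
    rw [Polynomial.coe_mapRingHom, ne_eq, Polynomial.map_eq_zero_iff (IsFractionRing.injective R F)]
    exact hG.ne_zero
  have h3 := (h1.isMaximal h0).eq_of_le h2.ne_top (Ideal.map_mono hle)
  rw [← IsLocalization.comap_map_of_isPrime_disjoint M (Polynomial F) ‹P.IsPrime› (hdisj _ le_rfl), ← h3,
    IsLocalization.comap_map_of_isPrime_disjoint M (Polynomial F) hspan (hdisj _ hle)]

/-- A prime over which the kernel and the localisation condition allow a lift. -/
theorem exists_prime_over {S Q : Type u} [CommRing S] [CommRing Q] (ψ : S →+* Q) (h : S)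
    (hsurj : ∀ q : Q, ∃ (N : ℕ) (g : S), IsNilpotent (ψ h ^ N * q - ψ g))
    (r : Ideal S) [r.IsPrime] (hh : h ∉ r) (hker : ∀ g, IsNilpotent (ψ g) → g ∈ r) :
    ∃ R : Ideal Q, R.IsPrime ∧ R.comap ψ = r := by
  let π := Ideal.Quotient.mk (nilradical Q)
  have hπ : ∀ q, π q = 0 ↔ IsNilpotent q := fun q => Ideal.Quotient.eq_zero_iff_mem.trans mem_nilradical
  refine (Ideal.comap_map_eq_self_iff_of_isPrime r).1 (le_antisymm (fun g hg => ?_) Ideal.le_comap_map) |>.imp
    fun R hR => ⟨hR.1, hR.2⟩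
  suffices key : ∀ y ∈ r.map ψ, ∃ (N : ℕ) (g' : S), g' ∈ r ∧ π (ψ h) ^ N * π y = π (ψ g') by
    obtain ⟨N, g', hg', he⟩ := key (ψ g) hg
    rw [← map_pow, ← map_mul, ← map_pow, ← map_mul, ← sub_eq_zero, ← map_sub, ← map_sub, hπ] at he
    exact (Ideal.IsPrime.mem_or_mem ‹_› ((r.sub_mem_iff_left hg').1 (hker _ he))).resolve_left
      fun h' => hh (Ideal.IsPrime.mem_of_pow_mem ‹_› _ h')
  intro y hy
  refine Submodule.span_induction (fun x hx => ?_) ⟨0, 0, zero_mem r, by simp⟩ (fun a b _ _ ha hb => ?_)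
    (fun a b _ hb => ?_) hy
  · obtain ⟨g', hg', rfl⟩ := hx
    exact ⟨0, g', hg', by simp⟩
  · obtain ⟨N, g₁, h₁, e₁⟩ := ha
    obtain ⟨M, g₂, h₂, e₂⟩ := hb
    refine ⟨N + M, h ^ M * g₁ + h ^ N * g₂, add_mem (r.mul_mem_left _ h₁) (r.mul_mem_left _ h₂), ?_⟩
    simp only [map_add, map_mul, map_pow, ← e₁, ← e₂]
    ring
  · obtain ⟨N, g₂, h₂, e₂⟩ := hb
    obtain ⟨M, g₁, e₁⟩ := hsurj a
    rw [← hπ, map_sub, map_mul, map_pow, sub_eq_zero] at e₁
    refine ⟨M + N, g₁ * g₂, r.mul_mem_left _ h₂, ?_⟩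
    rw [smul_eq_mul, map_mul, map_mul, map_mul, ← e₁, ← e₂]
    ring

variable {D : Type u} [CommRing D] [IsDomain D]

/-- A constructible set containing the generic point contains a basic open. -/
theorem exists_basicOpen_subset {s : Set (PrimeSpectrum D)} (hs : IsConstructible s)
    (h : (⟨⊥, Ideal.isPrime_bot⟩ : PrimeSpectrum D) ∈ s) :
    ∃ f : D, f ≠ 0 ∧ ∀ p : PrimeSpectrum D, f ∉ p.asIdeal → p ∈ s := by
  obtain ⟨O, hO, hηO, hOs⟩ := FibDim4.exists_open_subset_of_isConstructible hs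
    (η := (⟨⊥, Ideal.isPrime_bot⟩ : PrimeSpectrum D)) (fun U hU hne => by
      obtain ⟨p, hp⟩ := hne
      exact ((PrimeSpectrum.le_iff_specializes (⟨⊥, Ideal.isPrime_bot⟩ : PrimeSpectrum D) p).1 bot_le).mem_open hU hp) h
  obtain ⟨_, ⟨_, ⟨f, rfl⟩, rfl⟩, hfη, hfO⟩ := PrimeSpectrum.isBasis_basic_opens.exists_subset_of_mem_open hηO hO
  exact ⟨f, fun h0 => hfη (by simp [h0]), fun p hp => hOs (hfO hp)⟩

section Fibres

variable {σ : Type u} [Finite σ] {Q : Type u} [CommRing Q] [Algebra D Q]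
  (ψ : MvPolynomial σ D →ₐ[D] Q) (G h : MvPolynomial σ D)

/-- The base change of `ψ` to a field point. -/
noncomputable def ψL (L : Type u) [CommRing L] [Algebra D L] : MvPolynomial σ L →ₐ[L] L ⊗[D] Q :=
  aeval fun i => (1 : L) ⊗ₜ[D] ψ (X i)

omit [IsDomain D] [Finite σ] in
theorem ψL_map (L : Type u) [CommRing L] [Algebra D L] (g : MvPolynomial σ D) :
    ψL ψ L (map (algebraMap D L) g) = (1 : L) ⊗ₜ[D] ψ g := by
  have : ((ψL ψ L).restrictScalars D).comp (mapAlgHom (Algebra.ofId D L)) =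
      (Algebra.TensorProduct.includeRight : Q →ₐ[D] L ⊗[D] Q).comp ψ :=
    algHom_ext fun i => by simp [ψL]
  exact DFunLike.congr_fun this g

omit [IsDomain D] [Finite σ] in
theorem ψL_surj (hsurj : ∀ q : Q, ∃ (N : ℕ) (g : MvPolynomial σ D), IsNilpotent (ψ h ^ N * q - ψ g))
    (L : Type u) [CommRing L] [Algebra D L] (z : L ⊗[D] Q) :
    ∃ (N : ℕ) (g : MvPolynomial σ L),
      IsNilpotent (ψL ψ L (map (algebraMap D L) h) ^ N * z - ψL ψ L g) := by
  let π := Ideal.Quotient.mk (nilradical (L ⊗[D] Q))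
  have hπ : ∀ q, π q = 0 ↔ IsNilpotent q := fun q => Ideal.Quotient.eq_zero_iff_mem.trans mem_nilradical
  suffices ∃ (N : ℕ) (g : MvPolynomial σ L), π (ψL ψ L (map (algebraMap D L) h)) ^ N * π z = π (ψL ψ L g) by
    obtain ⟨N, g, e⟩ := this
    exact ⟨N, g, (hπ _).1 (by rw [map_sub, map_mul, map_pow, e, sub_self])⟩
  induction z using TensorProduct.induction_on with
  | zero => exact ⟨0, 0, by simp⟩
  | tmul l q =>
    obtain ⟨N, g, e⟩ := hsurj q
    refine ⟨N, MvPolynomial.C l * map (algebraMap D L) g, ?_⟩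
    rw [← map_pow, ← map_mul, ← sub_eq_zero, ← map_sub, hπ, map_mul (ψL ψ L), ψL_map, ψL_map, ← algebraMap_eq,
      AlgHom.commutes, Algebra.TensorProduct.tmul_pow, one_pow, Algebra.TensorProduct.algebraMap_apply,
      Algebra.TensorProduct.tmul_mul_tmul, Algebra.TensorProduct.tmul_mul_tmul, one_mul, Algebra.algebraMap_self,
      RingHom.id_apply, one_mul, mul_one, ← TensorProduct.tmul_sub,
      show l ⊗ₜ[D] (ψ h ^ N * q - ψ g) = l ⊗ₜ[D] (1 : Q) *
        (Algebra.TensorProduct.includeRight : Q →ₐ[D] L ⊗[D] Q) (ψ h ^ N * q - ψ g) by simp]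
    exact Commute.isNilpotent_mul_left (.all _ _) (e.map _)
  | add x y hx hy =>
    obtain ⟨N, g₁, e₁⟩ := hx
    obtain ⟨M, g₂, e₂⟩ := hy
    refine ⟨N + M, map (algebraMap D L) h ^ M * g₁ + map (algebraMap D L) h ^ N * g₂, ?_⟩
    simp only [map_add, map_mul, map_pow, ← e₁, ← e₂]
    ring

/-- EGA IV 9.7.7, algebraic core: the field points of an open of the base see an irreducible fibre. -/
theorem irreducibleSpace_fibre_of_model [Algebra.FinitePresentation D Q] (hhu : IsUnit (ψ h))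
    (hGnil : IsNilpotent (ψ G))
    (hsurj : ∀ q : Q, ∃ (N : ℕ) (g : MvPolynomial σ D), IsNilpotent (ψ h ^ N * q - ψ g))
    (hker : ∀ g, IsNilpotent (ψ g) → map (algebraMap D (FractionRing D)) G ∣ map (algebraMap D (FractionRing D)) g)
    (hG : Irreducible (map (algebraMap D (AlgebraicClosure (FractionRing D))) G))
    (hgen : ¬ IsNilpotent ((1 : FractionRing D) ⊗ₜ[D] (1 : Q))) :
    ∃ f : D, f ≠ 0 ∧ ∀ (L : Type u) [Field L] [Algebra D L], algebraMap D L f ≠ 0 →
      IrreducibleSpace (PrimeSpectrum (L ⊗[D] Q)) := by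
  classical
  let K := FractionRing D
  obtain ⟨f₀, hf₀, hirr⟩ := exists_irreducible_map G hG
  let S := MvPolynomial σ D
  let η : PrimeSpectrum D := ⟨⊥, Ideal.isPrime_bot⟩
  let W : Set (PrimeSpectrum S) := (PrimeSpectrum.basicOpen G : Set (PrimeSpectrum S))ᶜ ∩ PrimeSpectrum.basicOpen h
  have hW : IsConstructible W :=
    PrimeSpectrum.isConstructible_basicOpen.compl.inter PrimeSpectrum.isConstructible_basicOpen
  have hψfp : ψ.toRingHom.FinitePresentation :=
    RingHom.FinitePresentation.of_comp_finiteType (algebraMap D S)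
      (by rw [show ψ.toRingHom.comp (algebraMap D S) = algebraMap D Q from RingHom.ext ψ.commutes]; exact RingHom.finitePresentation_algebraMap.2 ‹_›)
      (RingHom.finiteType_algebraMap.2 inferInstance)
  have hCfp : (algebraMap D S).FinitePresentation := RingHom.finitePresentation_algebraMap.2 inferInstance
  have hrange := PrimeSpectrum.isConstructible_range_comap hψfp
  -- the generic fibre of `W` lies in the image
  have hgenW : ∀ r : PrimeSpectrum S, r ∈ W → PrimeSpectrum.comap (algebraMap D S) r = η →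
      r ∈ Set.range (PrimeSpectrum.comap ψ.toRingHom) := by
    intro r hr hrη
    have hGr : G ∈ r.asIdeal := by_contra fun hn => hr.1 hn
    obtain ⟨R, hR, hRr⟩ := exists_prime_over ψ.toRingHom h hsurj r.asIdeal hr.2 fun g hg => by
      obtain ⟨q, hq⟩ := hker g hg
      obtain ⟨d, hd⟩ := IsLocalization.exist_integer_multiples_of_finset (nonZeroDivisors D) (q.support.image fun m => q.coeff m)
      choose c hc using fun m : q.support => hd (q.coeff m.1) (Finset.mem_image_of_mem _ m.2)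
      let q₀ : S := ∑ m : q.support, monomial m.1 (c m)
      have hq₀ : map (algebraMap D K) q₀ = MvPolynomial.C (algebraMap D K d) * q := by
        conv_rhs => rw [q.as_sum, ← Finset.sum_coe_sort, Finset.mul_sum]
        simp only [q₀, map_sum, map_monomial, C_mul_monomial]
        exact Finset.sum_congr rfl fun m _ => by rw [hc m, Algebra.smul_def]
      have h1 : MvPolynomial.C (d : D) * g = G * q₀ := by
        apply map_injective (algebraMap D K) (IsFractionRing.injective D K)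
        rw [map_mul, map_mul, map_C, hq, hq₀]
        ring
      refine (r.2.mem_or_mem (show MvPolynomial.C (d : D) * g ∈ r.asIdeal from
        h1 ▸ r.asIdeal.mul_mem_right _ hGr)).resolve_left fun hd' => nonZeroDivisors.ne_zero d.2 ?_
      have h2 := congrArg PrimeSpectrum.asIdeal hrη
      exact Ideal.mem_bot.1 (h2.le hd')
    exact ⟨⟨R, hR⟩, PrimeSpectrum.ext hRr⟩
  let Bad : Set (PrimeSpectrum D) :=
    PrimeSpectrum.comap (algebraMap D S) '' (W \ Set.range (PrimeSpectrum.comap ψ.toRingHom))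
  obtain ⟨f₁, hf₁, hB⟩ := exists_basicOpen_subset (PrimeSpectrum.isConstructible_comap_image hCfp (hW.sdiff hrange)).compl
    (show η ∉ Bad by rintro ⟨r, ⟨hr, hr'⟩, hrη⟩; exact hr' (hgenW r hr hrη))
  have hQη : η ∈ Set.range (PrimeSpectrum.comap (algebraMap D Q)) := by
    haveI : Nontrivial (K ⊗[D] Q) := ⟨⟨(1 : K) ⊗ₜ[D] (1 : Q), 0, fun h => hgen (by rw [h]; exact IsNilpotent.zero)⟩⟩
    obtain ⟨R, hR⟩ := Ideal.exists_maximal (K ⊗[D] Q)
    refine ⟨⟨R.comap Algebra.TensorProduct.includeRight.toRingHom, Ideal.comap_isPrime _ _⟩,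
      PrimeSpectrum.ext (eq_bot_iff.2 fun a ha => Ideal.mem_bot.2 (by_contra fun ha0 => hR.ne_top ?_))⟩
    refine R.eq_top_of_isUnit_mem ha ?_
    show IsUnit ((Algebra.TensorProduct.includeRight : Q →ₐ[D] K ⊗[D] Q) (algebraMap D Q a))
    rw [AlgHom.commutes, IsScalarTower.algebraMap_apply D K (K ⊗[D] Q)]
    exact (isUnit_iff_ne_zero.2 fun h => ha0 (IsFractionRing.injective D K (h.trans (map_zero _).symm))).map _
  obtain ⟨f₂, hf₂, hne⟩ := exists_basicOpen_subset
    (PrimeSpectrum.isConstructible_range_comap (RingHom.finitePresentation_algebraMap.2 ‹Algebra.FinitePresentation D Q›)) hQη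
  refine ⟨f₀ * f₁ * f₂, mul_ne_zero (mul_ne_zero hf₀ hf₁) hf₂, fun L _ _ hf => ?_⟩
  rw [map_mul, map_mul, mul_ne_zero_iff, mul_ne_zero_iff] at hf
  obtain ⟨⟨hφ₀, hφ₁⟩, hφ₂⟩ := hf
  let gL := map (algebraMap D L) G
  let hL := map (algebraMap D L) h
  have hprime : Prime gL := (hirr L (algebraMap D L) hφ₀).prime
  haveI hRp : (Ideal.span {gL}).IsPrime := (Ideal.span_singleton_prime hprime.ne_zero).2 hprime
  let p : PrimeSpectrum D := ⟨RingHom.ker (algebraMap D L), RingHom.ker_isPrime _⟩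
  -- a point of the fibre
  obtain ⟨⟨T, hT⟩, hTp⟩ := hne p hφ₂
  haveI := hT
  obtain ⟨Ω, _, a, b, -, hb, hab⟩ := Unibr4.exists_common_field (R := D) (⊥ : Ideal L) T
    (by rw [show T.under D = p.asIdeal from congrArg PrimeSpectrum.asIdeal hTp]; rfl)
  letI := (a.comp (algebraMap D L)).toAlgebra
  let Θ : L ⊗[D] Q →ₐ[D] Ω := Algebra.TensorProduct.lift { a with commutes' := fun _ => rfl }
    { b with commutes' := fun r => (DFunLike.congr_fun hab r).symm } fun _ _ => .all _ _
  have hGLnil : IsNilpotent (ψL ψ L gL) := by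
    rw [ψL_map]; exact hGnil.map (Algebra.TensorProduct.includeRight : Q →ₐ[D] L ⊗[D] Q)
  have hhLu : IsUnit (ψL ψ L hL) := by
    rw [ψL_map]; exact hhu.map (Algebra.TensorProduct.includeRight : Q →ₐ[D] L ⊗[D] Q)
  have hhGL : hL ∉ Ideal.span {gL} := by
    intro hmem
    obtain ⟨c, hc⟩ := Ideal.mem_span_singleton.1 hmem
    refine (hhLu.map Θ).ne_zero ?_
    rw [hc, map_mul, map_mul]
    rw [show Θ (ψL ψ L gL) = 0 from (hGLnil.map Θ).eq_zero, zero_mul]
  -- the generic point of the hypersurface is in the image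
  let r : PrimeSpectrum S := ⟨(Ideal.span {gL}).comap (map (algebraMap D L)), Ideal.comap_isPrime _ _⟩
  have hrW : r ∈ W :=
    ⟨fun hn => hn (Ideal.subset_span rfl), hhGL⟩
  have hrp : PrimeSpectrum.comap (algebraMap D S) r = p := by
    refine PrimeSpectrum.ext (Ideal.ext fun a => ?_)
    show map (algebraMap D L) (algebraMap D S a) ∈ Ideal.span {gL} ↔ algebraMap D L a = 0
    rw [MvPolynomial.algebraMap_eq, map_C]
    refine ⟨fun hmem => by_contra fun h0 => hRp.ne_top
      ((Ideal.span _).eq_top_of_isUnit_mem hmem ((isUnit_iff_ne_zero.2 h0).map _)), fun h0 => by simp [h0]⟩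
  obtain ⟨⟨T', hT'⟩, hT'r⟩ : r ∈ Set.range (PrimeSpectrum.comap ψ.toRingHom) :=
    by_contra fun hn => hB p hφ₁ ⟨r, ⟨hrW, hn⟩, hrp⟩
  haveI := hT'
  letI : Algebra S Q := ψ.toRingHom.toAlgebra
  letI : Algebra S (MvPolynomial σ L) := (map (algebraMap D L)).toAlgebra
  obtain ⟨Ω', _, a', b', ha', -, hab'⟩ := Unibr4.exists_common_field (R := S) (Ideal.span {gL}) T'
    (congrArg PrimeSpectrum.asIdeal hT'r).symm
  letI := ((a'.comp MvPolynomial.C).comp (algebraMap D L)).toAlgebra
  have hb'c : ∀ d, b' (algebraMap D Q d) = algebraMap D Ω' d := fun d => by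
    show b' (algebraMap D Q d) = a' (MvPolynomial.C (algebraMap D L d))
    rw [← ψ.commutes d, MvPolynomial.algebraMap_eq, ← map_C (algebraMap D L) d]
    exact (DFunLike.congr_fun hab' _).symm
  let Θ' : L ⊗[D] Q →ₐ[D] Ω' := Algebra.TensorProduct.lift { a'.comp MvPolynomial.C with commutes' := fun _ => rfl }
    { b' with commutes' := hb'c } fun _ _ => .all _ _
  have hΘ : Θ'.toRingHom.comp (ψL ψ L).toRingHom = a' := by
    refine ringHom_ext (fun l => ?_) fun i => ?_
    · show Θ' (ψL ψ L (MvPolynomial.C l)) = a' (MvPolynomial.C l)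
      simp [ψL, Θ', Algebra.TensorProduct.algebraMap_apply]
    · show Θ' (ψL ψ L (X i)) = a' (X i)
      rw [show (X i : MvPolynomial σ L) = map (algebraMap D L) (X i) from (map_X _ i).symm, ψL_map]
      refine Eq.trans ?_ (DFunLike.congr_fun hab' (X i : S)).symm
      simp [Θ', RingHom.algebraMap_toAlgebra]
  have hkerL : ∀ g, IsNilpotent (ψL ψ L g) → g ∈ Ideal.span {gL} := fun g hg => by
    rw [← ha', RingHom.mem_ker, ← hΘ]
    exact (hg.map Θ').eq_zero
  rw [PrimeSpectrum.irreducibleSpace_iff_isPrime_nilradical]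
  let π := Ideal.Quotient.mk (nilradical (L ⊗[D] Q))
  have hπ : ∀ q, π q = 0 ↔ IsNilpotent q := fun q => Ideal.Quotient.eq_zero_iff_mem.trans mem_nilradical
  refine ⟨fun htop => ?_, fun {x y} hxy => ?_⟩
  · have h1 : IsNilpotent (ψL ψ L (1 : MvPolynomial σ L)) :=
      mem_nilradical.1 (by rw [htop]; exact trivial)
    exact hRp.ne_top ((Ideal.span _).eq_top_iff_one.2 (hkerL 1 h1))
  · obtain ⟨N, g₁, e₁⟩ := ψL_surj ψ h hsurj L x
    obtain ⟨M, g₂, e₂⟩ := ψL_surj ψ h hsurj L y
    rw [← hπ, map_sub, map_mul, map_pow, sub_eq_zero] at e₁ e₂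
    simp only [mem_nilradical, ← hπ] at hxy ⊢
    have h1 : π (ψL ψ L (g₁ * g₂)) = 0 := by
      rw [map_mul, map_mul, ← e₁, ← e₂]
      rw [map_mul] at hxy
      linear_combination (π (ψL ψ L hL) ^ N * π (ψL ψ L hL) ^ M) * hxy
    have hu : IsUnit (π (ψL ψ L hL)) := hhLu.map π
    rcases hRp.mem_or_mem (hkerL _ ((hπ _).1 h1)) with h2 | h2 <;> [left; right] <;>
    · obtain ⟨c, hc⟩ := Ideal.mem_span_singleton.1 h2
      have h3 : π (ψL ψ L gL) = 0 := (hπ _).2 hGLnil
      first
      | (rw [hc, map_mul, map_mul, h3, zero_mul] at e₁; exact (hu.pow N).mul_right_eq_zero.1 e₁)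
      | (rw [hc, map_mul, map_mul, h3, zero_mul] at e₂; exact (hu.pow M).mul_right_eq_zero.1 e₂)

end Fibres

end Groth.Agent.GeomSpread4
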