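import Groth.Agent.Lib.GeomSpread4.Model
import Groth.Agent.Lib.FibreTop.Constr

/-!
# Irreducible fibres near a generic point with irreducible geometric fibre
-/

universe u

open CategoryTheory CategoryTheory.Limits AlgebraicGeometry Topology TensorProduct

set_option backward.isDefEq.respectTransparency.types false

namespace Groth.Agent.GeomSpread4

/-- A space covered by pairwise meeting irreducible open sets is irreducible. -/
theorem irreducibleSpace_of_cover {α : Type*} [TopologicalSpace α] {ι : Type*} (W : ι → Set α)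
    (ho : ∀ k, IsOpen (W k)) (hc : ∀ a, ∃ k, a ∈ W k) (hi : ∀ k, IsPreirreducible (W k))
    (hm : ∀ k l, (W k).Nonempty → (W l).Nonempty → (W k ∩ W l).Nonempty) (hne : Nonempty α) :
    IrreducibleSpace α := by
  haveI : PreirreducibleSpace α := ⟨fun u v hu hv ⟨a, _, hau⟩ ⟨b, _, hbv⟩ => by
    obtain ⟨k, hak⟩ := hc a
    obtain ⟨l, hbl⟩ := hc b
    obtain ⟨e, -, he1, he2⟩ := hi k u (W k ∩ W l) hu ((ho k).inter (ho l)) ⟨a, hak, hau⟩
      (by obtain ⟨e, he⟩ := hm k l ⟨a, hak⟩ ⟨b, hbl⟩; exact ⟨e, he.1, he⟩)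
    obtain ⟨e', -, he'⟩ := hi l u v hu hv ⟨e, he2.2, he1⟩ ⟨b, hbl, hbv⟩
    exact ⟨e', trivial, he'⟩⟩
  exact ⟨hne⟩

variable {X Y T Z : Scheme.{u}}

theorem exists_piece (f : X ⟶ Y) (t : T ⟶ Y) (w : Z ⟶ X) [IsOpenImmersion w] :
    ∃ j : pullback (w ≫ f) t ⟶ pullback f t, IsOpenImmersion j ∧
      Set.range j = pullback.fst f t ⁻¹' Set.range w := by
  refine ⟨(pullbackRightPullbackFstIso f t w).inv ≫ pullback.snd w (pullback.fst f t), inferInstance, ?_⟩
  rw [Scheme.Hom.comp_base, TopCat.coe_comp, Set.range_comp,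
    (pullbackRightPullbackFstIso f t w).inv.surjective.range_eq, Set.image_univ,
    IsOpenImmersion.range_pullbackSnd]
  rfl

theorem isPreirreducible_piece (f : X ⟶ Y) (t : T ⟶ Y) (w : Z ⟶ X) [IsOpenImmersion w]
    [IrreducibleSpace ↥(pullback (w ≫ f) t)] : IsPreirreducible (pullback.fst f t ⁻¹' Set.range w) := by
  obtain ⟨j, _, hj⟩ := exists_piece f t w
  rw [← hj, ← Set.image_univ]
  exact (IrreducibleSpace.isIrreducible_univ _).isPreirreducible.image _ j.continuous.continuousOn

theorem irreducibleSpace_piece (f : X ⟶ Y) (t : T ⟶ Y) (w : Z ⟶ X) [IsOpenImmersion w]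
    [IrreducibleSpace ↥(pullback f t)] (h : (pullback.fst f t ⁻¹' Set.range w).Nonempty) :
    IrreducibleSpace ↥(pullback (w ≫ f) t) := by
  obtain ⟨j, _, hj⟩ := exists_piece f t w
  rw [← hj] at h
  haveI : PreirreducibleSpace ↥(pullback (w ≫ f) t) := ⟨fun u v hu hv ⟨a, _, hau⟩ ⟨b, _, hbv⟩ => by
    obtain ⟨_, -, ⟨c, hc, rfl⟩, ⟨c', hc', he⟩⟩ := (IrreducibleSpace.isIrreducible_univ ↥(pullback f t)).isPreirreducible
      (j '' u) (j '' v) (j.isOpenEmbedding.isOpenMap u hu) (j.isOpenEmbedding.isOpenMap v hv)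
      ⟨j a, trivial, a, hau, rfl⟩ ⟨j b, trivial, b, hbv, rfl⟩
    exact ⟨c, trivial, hc, j.isOpenEmbedding.injective he ▸ hc'⟩⟩
  obtain ⟨_, a, -⟩ := h
  exact ⟨⟨a⟩⟩

variable {D C : Type u} [CommRing D] [CommRing C] [Algebra D C]

theorem irreducibleSpace_pullback_spec_iff (L : Type u) [CommRing L] [Algebra D L] :
    IrreducibleSpace ↥(pullback (Spec.map (CommRingCat.ofHom (algebraMap D C)))
      (Spec.map (CommRingCat.ofHom (algebraMap D L)))) ↔ IrreducibleSpace (PrimeSpectrum (L ⊗[D] C)) := by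
  rw [(pullbackSpecIso D C L).hom.homeomorph.irreducibleSpace_iff]
  exact (PrimeSpectrum.homeomorphOfRingEquiv (Algebra.TensorProduct.comm D C L).toRingEquiv).irreducibleSpace_iff

/-- An affine chart with irreducible generic fibre has irreducible fibres over an open of the base. -/
theorem exists_affine [IsDomain D] [IsAlgClosed (FractionRing D)] [Algebra.FinitePresentation D C]
    (hirr : IrreducibleSpace (PrimeSpectrum (FractionRing D ⊗[D] C))) :
    ∃ d : D, d ≠ 0 ∧ ∀ (L : Type u) [Field L] [Algebra D L], algebraMap D L d ≠ 0 →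
      IrreducibleSpace (PrimeSpectrum (L ⊗[D] C)) := by
  obtain ⟨c, hc, d₀, hd₀, hL⟩ := exists_open_irreducible_fibres hirr
  let h : Spec (CommRingCat.of C) ⟶ Spec (CommRingCat.of D) := Spec.map (CommRingCat.ofHom (algebraMap D C))
  let jc : Spec (CommRingCat.of (Localization.Away c)) ⟶ Spec (CommRingCat.of C) :=
    Spec.map (CommRingCat.ofHom (algebraMap C (Localization.Away c)))
  haveI : IsOpenImmersion jc := IsOpenImmersion.of_isLocalization c
  have hjh : jc ≫ h = Spec.map (CommRingCat.ofHom (algebraMap D (Localization.Away c))) := by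
    rw [← Spec.map_comp, ← CommRingCat.ofHom_comp, ← IsScalarTower.algebraMap_eq]
  haveI : LocallyOfFinitePresentation h := (HasRingHomProperty.Spec_iff (P := @LocallyOfFinitePresentation)).2
    (RingHom.finitePresentation_algebraMap.2 ‹Algebra.FinitePresentation D C›)
  let Bad : Set (Spec (CommRingCat.of D)) := h '' (FibreTop.fibClosure h (Set.range jc))ᶜ
  have hBad : IsConstructible Bad := by
    refine (h.isLocallyConstructible_image
      (FibreTop.isLocallyConstructible_fibClosure h ?_).isConstructible.compl.isLocallyConstructible).isConstructible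
    rw [← Set.image_univ]
    exact jc.isLocallyConstructible_image IsConstructible.univ.isLocallyConstructible
  let η : PrimeSpectrum D := ⟨⊥, Ideal.isPrime_bot⟩
  have hηBad : η ∉ Bad := by
    rintro ⟨x, hx, hxη⟩
    let t : Spec (CommRingCat.of (FractionRing D)) ⟶ Spec (CommRingCat.of D) :=
      Spec.map (CommRingCat.ofHom (algebraMap D (FractionRing D)))
    haveI := (irreducibleSpace_pullback_spec_iff (C := C) (FractionRing D)).2 hirr
    have ht : ∀ z, t z = η := fun z => PrimeSpectrum.ext (eq_bot_iff.2 fun a ha => Ideal.mem_bot.2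
      (by_contra fun h0 => (z : PrimeSpectrum (FractionRing D)).2.ne_top (Ideal.eq_top_of_isUnit_mem _ ha
        (isUnit_iff_ne_zero.2 fun hz => h0 (IsFractionRing.injective D (FractionRing D) (hz.trans (map_zero _).symm))))))
    have hne : (pullback.fst h t ⁻¹' Set.range jc).Nonempty := by
      by_contra hem
      apply hc
      have hall : ∀ z : PrimeSpectrum (FractionRing D ⊗[D] C), (1 : FractionRing D) ⊗ₜ[D] c ∈ z.asIdeal := by
        intro z
        by_contra hz
        let q : PrimeSpectrum C :=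
          PrimeSpectrum.comap (Algebra.TensorProduct.includeRight : C →ₐ[D] FractionRing D ⊗[D] C).toRingHom z
        obtain ⟨y, hy⟩ : (q : Spec (CommRingCat.of C)) ∈ Set.range jc :=
          (PrimeSpectrum.localization_away_comap_range (Localization.Away c) c).ge hz
        have hqη : h q = η := PrimeSpectrum.ext (eq_bot_iff.2 fun a ha => Ideal.mem_bot.2
          (by_contra fun h0 => z.2.ne_top (Ideal.eq_top_of_isUnit_mem _ ha (by
            show IsUnit ((Algebra.TensorProduct.includeRight : C →ₐ[D] FractionRing D ⊗[D] C) (algebraMap D C a))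
            rw [AlgHom.commutes, IsScalarTower.algebraMap_apply D (FractionRing D) (FractionRing D ⊗[D] C)]
            exact (isUnit_iff_ne_zero.2 fun hz => h0 (IsFractionRing.injective D (FractionRing D) (hz.trans (map_zero _).symm))).map _))))
        obtain ⟨w, hw, -⟩ := Scheme.Pullback.exists_preimage_pullback (f := h) (g := t) q (closedPoint' (FractionRing D)) (by rw [hqη, ht])
        exact hem ⟨w, by rw [Set.mem_preimage, hw]; exact ⟨y, hy⟩⟩
      rw [← mem_nilradical, nilradical_eq_sInf, Ideal.mem_sInf]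
      exact fun {J} hJ => hall ⟨J, hJ⟩
    refine hx ?_
    obtain ⟨w, hw, -⟩ := Scheme.Pullback.exists_preimage_pullback (f := h) (g := t) x (closedPoint' (FractionRing D)) (by rw [hxη, ht])
    have h1 : w ∈ closure (pullback.fst h t ⁻¹' Set.range jc) :=
      ((jc.isOpenEmbedding.isOpen_range.preimage (pullback.fst h t).continuous).dense hne) w
    have h2 : w ∈ FibreTop.fibClosure (pullback.snd h t) (pullback.fst h t ⁻¹' Set.range jc) := by
      rw [FibreTop.mem_fibClosure, show pullback.snd h t ⁻¹' {pullback.snd h t w} = Set.univ from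
        Set.eq_univ_of_forall fun z => Subsingleton.elim (α := PrimeSpectrum (FractionRing D)) _ _, Set.inter_univ]
      exact h1
    rw [FibreTop.fibClosure_baseChange (IsPullback.of_hasPullback h t), Set.mem_preimage, hw] at h2
    exact h2
  obtain ⟨d₁, hd₁, hgood⟩ := exists_basicOpen_subset hBad.compl hηBad
  refine ⟨d₀ * d₁, mul_ne_zero hd₀ hd₁, fun L _ _ hd => ?_⟩
  rw [map_mul, mul_ne_zero_iff] at hd
  let t : Spec (CommRingCat.of L) ⟶ Spec (CommRingCat.of D) := Spec.map (CommRingCat.ofHom (algebraMap D L))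
  rw [← irreducibleSpace_pullback_spec_iff]
  haveI : IrreducibleSpace ↥(pullback (jc ≫ h) t) := by
    rw [hjh]; exact (irreducibleSpace_pullback_spec_iff L).2 (hL L hd.1)
  obtain ⟨j, _, hj⟩ := exists_piece h t jc
  have hdense : ∀ w : ↥(pullback h t), w ∈ closure (Set.range j) := by
    intro w
    have h2 : pullback.fst h t w ∈ FibreTop.fibClosure h (Set.range jc) := by
      by_contra hn
      refine hgood _ (fun hm => hd.2 ?_) ⟨_, hn, rfl⟩
      rw [← Scheme.Hom.comp_apply, pullback.condition, Scheme.Hom.comp_apply] at hm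
      have h3 : algebraMap D L d₁ ∈ (pullback.snd h t w : PrimeSpectrum L).asIdeal := hm
      by_contra hne
      exact (pullback.snd h t w : PrimeSpectrum L).2.ne_top (Ideal.eq_top_of_isUnit_mem _ h3 (isUnit_iff_ne_zero.2 hne))
    rw [← Set.mem_preimage (f := pullback.fst h t), ← FibreTop.fibClosure_baseChange (IsPullback.of_hasPullback h t), ← hj,
      FibreTop.mem_fibClosure] at h2
    exact closure_mono Set.inter_subset_left h2
  have h3 : IsIrreducible (closure (Set.range j)) := by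
    rw [← Set.image_univ]
    exact ((IrreducibleSpace.isIrreducible_univ _).image _ j.continuous.continuousOn).closure
  rw [irreducibleSpace_def]
  rwa [Set.eq_univ_of_forall hdense] at h3
where
  closedPoint' (K : Type u) [Field K] : Spec (CommRingCat.of K) := IsLocalRing.closedPoint K

/-- EGA IV 9.7.7 over a domain with algebraically closed fraction field. -/
theorem exists_irreducible_fibres_of_isAlgClosed {D : Type u} [CommRing D] [IsDomain D] [IsAlgClosed (FractionRing D)]
    (f : X ⟶ Spec (CommRingCat.of D)) [LocallyOfFinitePresentation f] [QuasiCompact f]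
    (hirr : IrreducibleSpace ↥(pullback f (Spec.map (CommRingCat.ofHom (algebraMap D (FractionRing D)))))) :
    ∃ d : D, d ≠ 0 ∧ ∀ (L : Type u) [Field L] [Algebra D L], algebraMap D L d ≠ 0 →
      IrreducibleSpace ↥(pullback f (Spec.map (CommRingCat.ofHom (algebraMap D L)))) := by
  classical
  haveI : CompactSpace X := QuasiCompact.compactSpace_of_compactSpace f
  let K := FractionRing D
  let tK : Spec (CommRingCat.of K) ⟶ Spec (CommRingCat.of D) := Spec.map (CommRingCat.ofHom (algebraMap D K))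
  haveI := hirr
  let η : PrimeSpectrum D := ⟨⊥, Ideal.isPrime_bot⟩
  have htK : ∀ z, tK z = η := fun z => PrimeSpectrum.ext (eq_bot_iff.2 fun a ha => Ideal.mem_bot.2
      (by_contra fun h0 => (z : PrimeSpectrum K).2.ne_top (Ideal.eq_top_of_isUnit_mem _ ha
        (isUnit_iff_ne_zero.2 fun hz => h0 (IsFractionRing.injective D K (hz.trans (map_zero _).symm))))))
  have hgen : ∀ S : Set X, (pullback.fst f tK ⁻¹' S).Nonempty ↔ η ∈ f '' S := by
    refine fun S => ⟨fun ⟨w, hw⟩ => ⟨_, hw, ?_⟩, fun ⟨x, hx, hxη⟩ => ?_⟩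
    · rw [← Scheme.Hom.comp_apply, pullback.condition, Scheme.Hom.comp_apply, htK]
    · obtain ⟨w, hw, -⟩ := Scheme.Pullback.exists_preimage_pullback (f := f) (g := tK) x
        (IsLocalRing.closedPoint K : Spec (CommRingCat.of K)) (by rw [hxη, htK])
      exact ⟨w, by rw [Set.mem_preimage, hw]; exact hx⟩
  let 𝒰 := X.affineCover.finiteSubcover
  letI := Fintype.ofFinite 𝒰.I₀
  -- constructible images
  have hcons : ∀ (B : CommRingCat.{u}) (g : Spec B ⟶ X) [IsOpenImmersion g], IsConstructible (f '' Set.range g) := by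
    intro B g _
    rw [← Set.range_comp, show (f ∘ g : Spec B → Spec (CommRingCat.of D)) = ⇑(g ≫ f) from rfl, ← Set.image_univ]
    exact ((g ≫ f).isLocallyConstructible_image IsConstructible.univ.isLocallyConstructible).isConstructible
  -- a chart
  have hchart : ∀ k : 𝒰.I₀, ∃ d : D, d ≠ 0 ∧ ∀ (L : Type u) [Field L] [Algebra D L], algebraMap D L d ≠ 0 →
      IsPreirreducible (pullback.fst f (Spec.map (CommRingCat.ofHom (algebraMap D L))) ⁻¹' Set.range (𝒰.f k)) ∧
      ((pullback.fst f (Spec.map (CommRingCat.ofHom (algebraMap D L))) ⁻¹' Set.range (𝒰.f k)).Nonempty →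
        η ∈ f '' Set.range (𝒰.f k)) := by
    intro k
    haveI : IsAffine (𝒰.X k) := inferInstance
    let w : Spec Γ(𝒰.X k, ⊤) ⟶ X := (𝒰.X k).isoSpec.inv ≫ 𝒰.f k
    have hw : Set.range w = Set.range (𝒰.f k) := by
      rw [Scheme.Hom.comp_base, TopCat.coe_comp, Set.range_comp, (𝒰.X k).isoSpec.inv.surjective.range_eq, Set.image_univ]
    by_cases hη : η ∈ f '' Set.range (𝒰.f k)
    · obtain ⟨φ, hφ⟩ := Spec.map_surjective (w ≫ f)
      letI := φ.hom.toAlgebra
      haveI : Algebra.FinitePresentation D Γ(𝒰.X k, ⊤) := by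
        have : LocallyOfFinitePresentation (Spec.map φ) := hφ ▸ inferInstance
        exact (HasRingHomProperty.Spec_iff (P := @LocallyOfFinitePresentation)).1 this
      have hφ' : w ≫ f = Spec.map (CommRingCat.ofHom (algebraMap D Γ(𝒰.X k, ⊤))) := hφ.symm
      obtain ⟨d, hd, hL⟩ := exists_affine (C := Γ(𝒰.X k, ⊤)) ((irreducibleSpace_pullback_spec_iff K).1 (by
        rw [← hφ']; exact irreducibleSpace_piece f tK w (by rw [hw]; exact (hgen _).2 hη)))
      refine ⟨d, hd, fun L _ _ hdL => ⟨?_, fun _ => hη⟩⟩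
      haveI : IrreducibleSpace ↥(pullback (w ≫ f) (Spec.map (CommRingCat.ofHom (algebraMap D L)))) := by
        rw [hφ']; exact (irreducibleSpace_pullback_spec_iff L).2 (hL L hdL)
      rw [← hw]
      exact isPreirreducible_piece f _ w
    · obtain ⟨d, hd, hgood⟩ := exists_basicOpen_subset (hw ▸ hcons _ w).compl hη
      refine ⟨d, hd, fun L _ _ hdL => ?_⟩
      have hem : ¬ (pullback.fst f (Spec.map (CommRingCat.ofHom (algebraMap D L))) ⁻¹' Set.range (𝒰.f k)).Nonempty := by
        rintro ⟨z, hz⟩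
        refine hgood _ (fun hm => ?_) ⟨_, hz, rfl⟩
        rw [← Scheme.Hom.comp_apply, pullback.condition, Scheme.Hom.comp_apply] at hm
        exact (pullback.snd f (Spec.map (CommRingCat.ofHom (algebraMap D L))) z : PrimeSpectrum L).2.ne_top
          (Ideal.eq_top_of_isUnit_mem _ (show algebraMap D L d ∈ _ from hm) (isUnit_iff_ne_zero.2 hdL))
      exact ⟨by rw [Set.not_nonempty_iff_eq_empty.1 hem]; exact isPreirreducible_empty, fun h => absurd h hem⟩
  choose d₁ hd₁ h₁ using hchart
  -- pairwise intersections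
  have hpair : ∀ kl : 𝒰.I₀ × 𝒰.I₀, ∃ d : D, d ≠ 0 ∧ (η ∈ f '' Set.range (𝒰.f kl.1) → η ∈ f '' Set.range (𝒰.f kl.2) →
      ∀ p : PrimeSpectrum D, d ∉ p.asIdeal → p ∈ f '' (Set.range (𝒰.f kl.1) ∩ Set.range (𝒰.f kl.2))) := by
    intro kl
    by_cases hη : η ∈ f '' Set.range (𝒰.f kl.1) ∧ η ∈ f '' Set.range (𝒰.f kl.2)
    · have hmeet := (IrreducibleSpace.isIrreducible_univ ↥(pullback f tK)).isPreirreducible _ _
        ((𝒰.f kl.1).isOpenEmbedding.isOpen_range.preimage (pullback.fst f tK).continuous)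
        ((𝒰.f kl.2).isOpenEmbedding.isOpen_range.preimage (pullback.fst f tK).continuous)
        (by simpa using (hgen _).2 hη.1) (by simpa using (hgen _).2 hη.2)
      obtain ⟨w, -, hw1, hw2⟩ := hmeet
      obtain ⟨O, hO, hwO, hOsub⟩ := exists_isAffineOpen_mem_and_subset (X := X) (x := pullback.fst f tK w)
        (U := (𝒰.f kl.1).opensRange ⊓ (𝒰.f kl.2).opensRange) ⟨hw1, hw2⟩
      obtain ⟨d, hd, hgood⟩ := exists_basicOpen_subset (hcons _ hO.fromSpec)
        (show η ∈ f '' Set.range hO.fromSpec from (hgen _).1 ⟨w, by rw [Set.mem_preimage, hO.range_fromSpec]; exact hwO⟩)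
      exact ⟨d, hd, fun _ _ p hp => Set.image_mono (by rw [hO.range_fromSpec]; exact hOsub) (hgood p hp)⟩
    · exact ⟨1, one_ne_zero, fun h h' => absurd ⟨h, h'⟩ hη⟩
  choose d₂ hd₂ h₂ using hpair
  have hne : η ∈ f '' Set.univ := (hgen _).1 (by simp only [Set.preimage_univ]; exact ⟨Classical.arbitrary _, trivial⟩)
  obtain ⟨x₀, -, hx₀⟩ := hne
  obtain ⟨k₀, hk₀⟩ : ∃ k, x₀ ∈ Set.range (𝒰.f k) := ⟨_, 𝒰.covers x₀⟩
  refine ⟨(∏ k, d₁ k) * ∏ kl, d₂ kl, mul_ne_zero (Finset.prod_ne_zero_iff.2 fun k _ => hd₁ k)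
    (Finset.prod_ne_zero_iff.2 fun k _ => hd₂ k), fun L _ _ hd => ?_⟩
  rw [map_mul, map_prod, map_prod, mul_ne_zero_iff, Finset.prod_ne_zero_iff, Finset.prod_ne_zero_iff] at hd
  let t : Spec (CommRingCat.of L) ⟶ Spec (CommRingCat.of D) := Spec.map (CommRingCat.ofHom (algebraMap D L))
  have hlift : ∀ k l, η ∈ f '' Set.range (𝒰.f k) → η ∈ f '' Set.range (𝒰.f l) →
      (pullback.fst f t ⁻¹' Set.range (𝒰.f k) ∩ pullback.fst f t ⁻¹' Set.range (𝒰.f l)).Nonempty := by
    intro k l hk hl
    obtain ⟨x, hx, hxp⟩ := h₂ (k, l) hk hl (t (IsLocalRing.closedPoint L : Spec (CommRingCat.of L)))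
      (fun hm => hd.2 _ (Finset.mem_univ (k, l)) (by
        have h3 : algebraMap D L (d₂ (k, l)) ∈ (IsLocalRing.closedPoint L : PrimeSpectrum L).asIdeal := hm
        rwa [(Ideal.eq_bot_or_top (IsLocalRing.closedPoint L : PrimeSpectrum L).asIdeal).resolve_right
          (IsLocalRing.closedPoint L : PrimeSpectrum L).2.ne_top, Ideal.mem_bot] at h3))
    obtain ⟨w, hw, -⟩ := Scheme.Pullback.exists_preimage_pullback (f := f) (g := t) x _ hxp
    exact ⟨w, by rw [Set.mem_preimage, hw]; exact hx.1, by rw [Set.mem_preimage, hw]; exact hx.2⟩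
  refine irreducibleSpace_of_cover (fun k => pullback.fst f t ⁻¹' Set.range (𝒰.f k))
    (fun k => (𝒰.f k).isOpenEmbedding.isOpen_range.preimage (pullback.fst f t).continuous)
    (fun a => ⟨_, 𝒰.covers (pullback.fst f t a)⟩) (fun k => (h₁ k L (hd.1 k (Finset.mem_univ _))).1)
    (fun k l hk hl => hlift k l ((h₁ k L (hd.1 k (Finset.mem_univ _))).2 hk) ((h₁ l L (hd.1 l (Finset.mem_univ _))).2 hl)) ?_
  obtain ⟨w, -⟩ := hlift k₀ k₀ ⟨x₀, hk₀, hx₀⟩ ⟨x₀, hk₀, hx₀⟩
  exact ⟨w⟩

end Groth.Agent.GeomSpread4
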