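import Groth.Agent.Lib.GeomSpread4.Core

/-!
# The hypersurface model of an irreducible generic fibre
-/

universe u

open MvPolynomial TensorProduct

namespace Groth.Agent.GeomSpread4

theorem exists_clear_denominators {D : Type u} [CommRing D] [IsDomain D] {σ : Type u}
    (g : MvPolynomial σ (FractionRing D)) :
    ∃ (d : D) (g₀ : MvPolynomial σ D), d ≠ 0 ∧
      map (algebraMap D (FractionRing D)) g₀ = MvPolynomial.C (algebraMap D (FractionRing D) d) * g := by
  induction g using MvPolynomial.induction_on with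
  | C a =>
    obtain ⟨n, d, hd, rfl⟩ := IsFractionRing.div_surjective (A := D) a
    refine ⟨d, MvPolynomial.C n, nonZeroDivisors.ne_zero hd, ?_⟩
    rw [map_C, ← map_mul, mul_div_cancel₀ _ (IsFractionRing.to_map_ne_zero_of_mem_nonZeroDivisors hd)]
  | add p q hp hq =>
    obtain ⟨d₁, p₀, h₁, e₁⟩ := hp
    obtain ⟨d₂, q₀, h₂, e₂⟩ := hq
    refine ⟨d₁ * d₂, MvPolynomial.C d₂ * p₀ + MvPolynomial.C d₁ * q₀, mul_ne_zero h₁ h₂, ?_⟩
    simp only [map_add, map_mul, map_C, e₁, e₂]
    ring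
  | mul_X p i hp =>
    obtain ⟨d, p₀, h, e⟩ := hp
    exact ⟨d, p₀ * X i, h, by rw [map_mul, map_X, e, mul_assoc]⟩

/-- A function field over an algebraically closed field is that of a hypersurface. -/
theorem exists_hypersurface (K F : Type u) [Field K] [IsAlgClosed K] [Field F] [Algebra K F]
    [Algebra.EssFiniteType K F] :
    ∃ (σ : Type u) (_ : Finite σ) (val : σ → F) (G : MvPolynomial σ K), Prime G ∧ aeval val G = 0 ∧
      (∀ g, aeval val g = 0 → G ∣ g) ∧
      ∀ z : F, ∃ r q : MvPolynomial σ K, aeval val q ≠ 0 ∧ z * aeval val q = aeval val r := by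
  classical
  obtain ⟨s, hs, hsep⟩ := exists_isTranscendenceBasis_and_isSeparable_of_perfectField K F
  haveI := hsep
  let L₀ := IntermediateField.adjoin K (s : Set F)
  haveI : Algebra.EssFiniteType L₀ F := Algebra.EssFiniteType.of_comp K L₀ F
  haveI : Algebra.IsAlgebraic L₀ F := Algebra.IsSeparable.isAlgebraic L₀ F
  haveI : Module.Finite L₀ F := Algebra.finite_of_essFiniteType_of_isAlgebraic
  obtain ⟨θ, hθ⟩ := Field.exists_primitive_element L₀ F
  let σ := Option (↥s)
  let val : σ → F := fun i => i.elim θ Subtype.val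
  let eK : MvPolynomial σ K →ₐ[K] F := aeval val
  have hgenF : ∀ z : F, ∃ r q : MvPolynomial σ K, eK q ≠ 0 ∧ z * eK q = eK r := by
    intro z
    have hz : z ∈ IntermediateField.adjoin K (Set.range val) := by
      have h1 : Set.range val = ((s : Set F) ∪ {θ}) := by
        ext a
        simp only [Set.mem_range, Set.mem_union, Set.mem_singleton_iff, val]
        exact ⟨fun ⟨i, hi⟩ => by cases i with | none => exact .inr hi.symm | some j => exact .inl (hi ▸ j.2),
          fun h => h.elim (fun h => ⟨some ⟨a, h⟩, rfl⟩) (fun h => ⟨none, h.symm⟩)⟩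
      rw [h1, ← IntermediateField.adjoin_adjoin_left]
      show z ∈ (IntermediateField.adjoin L₀ {θ}).restrictScalars K
      rw [IntermediateField.mem_restrictScalars, hθ]
      exact trivial
    obtain ⟨r, q, hrq⟩ := (IntermediateField.mem_adjoin_range_iff K val z).1 hz
    rcases eq_or_ne (eK q) 0 with h | h
    · exact ⟨0, 1, by simp, by rw [hrq, show aeval val q = eK q from rfl, h, div_zero, zero_mul, map_zero]⟩
    · exact ⟨r, q, h, by rw [hrq]; exact div_mul_cancel₀ _ h⟩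
  -- the equation
  let PK := RingHom.ker eK.toRingHom
  haveI : PK.IsPrime := RingHom.ker_isPrime _
  have hPK0 : PK ≠ ⊥ := fun h => by
    have hi : AlgebraicIndependent K val := fun a b hab =>
      (RingHom.injective_iff_ker_eq_bot eK.toRingHom).2 h hab
    have h1 := (AlgebraicIndependent.option_iff_transcendental hs.1 θ).1 (by
      rw [show (fun o : Option ↥s => o.elim θ Subtype.val) = val from rfl]; exact hi)
    exact h1 ((hs.isAlgebraic).isAlgebraic θ)
  obtain ⟨G, hGP, hGp⟩ := Ideal.IsPrime.exists_mem_prime_of_ne_bot ‹PK.IsPrime› hPK0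
  have hPK : ∀ g : MvPolynomial σ K, eK g = 0 → G ∣ g := by
    intro g hg
    let e := (optionEquivLeft K ↥s).toRingEquiv
    haveI : (PK.map e.toRingHom).IsPrime := Ideal.map_isPrime_of_equiv e
    have h1 := polynomial_prime_eq_span (PK.map e.toRingHom) (fun r hr => ?_) (G := e G)
      ((MulEquiv.prime_iff e.toMulEquiv).2 hGp) (Ideal.mem_map_of_mem _ hGP)
    · have h2 : e g ∈ Ideal.span {e G} := h1 ▸ Ideal.mem_map_of_mem e.toRingHom (RingHom.mem_ker.2 hg)
      obtain ⟨w, hw⟩ := Ideal.mem_span_singleton.1 h2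
      exact ⟨e.symm w, by rw [← e.symm_apply_apply g, hw, map_mul, e.symm_apply_apply]⟩
    · obtain ⟨g', hg', hge⟩ := (Ideal.mem_map_iff_of_surjective e.toRingHom e.surjective).1 hr
      have h3 : g' = rename some r := e.injective (hge.trans (by
        have h4 : (optionEquivLeft K ↥s).toAlgHom.comp (rename some : MvPolynomial ↥s K →ₐ[K] MvPolynomial (Option ↥s) K) =
            IsScalarTower.toAlgHom K (MvPolynomial ↥s K) (Polynomial (MvPolynomial ↥s K)) :=
          algHom_ext fun i => by simp [optionEquivLeft_X_some, Polynomial.algebraMap_eq]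
        exact (DFunLike.congr_fun h4 r).symm))
      subst h3
      have h' : aeval val (rename some r) = 0 := RingHom.mem_ker.1 hg'
      rw [aeval_rename] at h'
      exact hs.1 (h'.trans (map_zero _).symm)
  exact ⟨σ, inferInstance, val, G, hGp, RingHom.mem_ker.1 hGP, hPK, hgenF⟩

/-- The model for an algebra mapping to the function field of its generic fibre. -/
theorem exists_open_irreducible_fibres_of_field {D C F : Type u} [CommRing D] [IsDomain D] [CommRing C] [Algebra D C]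
    [Algebra.FinitePresentation D C] [IsAlgClosed (FractionRing D)] [Field F] [Algebra (FractionRing D) F] [Algebra D F]
    [IsScalarTower D (FractionRing D) F] [Algebra.EssFiniteType (FractionRing D) F] (ι : C →ₐ[D] F)
    (hι : ∀ x : C, ι x = 0 → ∃ (d : D) (N : ℕ), d ≠ 0 ∧ d • x ^ N = 0)
    (hfrac : ∀ z : F, ∃ a b : C, ι b ≠ 0 ∧ z * ι b = ι a) :
    ∃ c : C, ¬ IsNilpotent ((1 : FractionRing D) ⊗ₜ[D] c) ∧ ∃ f : D, f ≠ 0 ∧
      ∀ (L : Type u) [Field L] [Algebra D L], algebraMap D L f ≠ 0 →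
        IrreducibleSpace (PrimeSpectrum (L ⊗[D] Localization.Away c)) := by
  classical
  let K := FractionRing D
  have hι' : ∀ (x : C) (d : D), d ≠ 0 → algebraMap D F d ≠ 0 := fun x d hd => by
    rw [IsScalarTower.algebraMap_apply D K F]
    exact (map_ne_zero _).2 fun h => hd (IsFractionRing.injective D K (h.trans (map_zero _).symm))
  obtain ⟨σ, _, val, G, hGp, hGP, hPK, hgenF⟩ := exists_hypersurface K F
  letI := Fintype.ofFinite σ
  let eK : MvPolynomial σ K →ₐ[K] F := aeval val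
  obtain ⟨dG, G₀, hdG, hG₀⟩ := exists_clear_denominators G
  let ev : MvPolynomial σ D →ₐ[D] F := aeval val
  have hev : ∀ g, ev g = eK (MvPolynomial.map (algebraMap D K) g) := fun g => (aeval_map_algebraMap K val g).symm
  have hunit : ∀ d : D, d ≠ 0 → IsUnit (MvPolynomial.C (σ := σ) (algebraMap D K d)) := fun d hd =>
    (isUnit_iff_ne_zero.2 fun h => hd (IsFractionRing.injective D K (h.trans (map_zero _).symm))).map _
  have hgenD : ∀ z : F, ∃ g h : MvPolynomial σ D, ev h ≠ 0 ∧ z * ev h = ev g := by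
    intro z
    obtain ⟨r, q, hq, hz⟩ := hgenF z
    obtain ⟨d, r₀, hd, hr₀⟩ := exists_clear_denominators r
    obtain ⟨d', q₀, hd', hq₀⟩ := exists_clear_denominators q
    refine ⟨MvPolynomial.C d' * r₀, MvPolynomial.C d * q₀, ?_, ?_⟩
    · rw [hev, map_mul, map_C, hq₀, map_mul, map_mul]
      exact mul_ne_zero ((hunit d hd).map eK).ne_zero (mul_ne_zero ((hunit d' hd').map eK).ne_zero hq)
    · rw [hev, hev, map_mul, map_C, hq₀, map_mul (MvPolynomial.map _), map_C, hr₀]
      simp only [map_mul]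
      rw [← hz]
      ring
  -- the model
  choose aa bb hbb hab using hfrac
  let c₀ := ∏ i : σ, bb (val i)
  let num : σ → C := fun i => aa (val i) * ∏ j ∈ Finset.univ.erase i, bb (val j)
  have hc₀ : ι c₀ ≠ 0 := by
    rw [map_prod]; exact Finset.prod_ne_zero_iff.2 fun i _ => hbb (val i)
  have hnum : ∀ i, val i * ι c₀ = ι (num i) := fun i => by
    rw [show c₀ = bb (val i) * ∏ j ∈ Finset.univ.erase i, bb (val j) from
      (Finset.mul_prod_erase _ _ (Finset.mem_univ i)).symm, map_mul, ← mul_assoc, hab, ← map_mul]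
  let Q₀ := Localization.Away c₀
  let π₀ : Q₀ →+* F := IsLocalization.Away.lift c₀ (g := ι.toRingHom) (isUnit_iff_ne_zero.2 hc₀)
  have hπ₀ : ∀ x, π₀ (algebraMap C Q₀ x) = ι x := fun x => IsLocalization.Away.lift_eq _ _ x
  have hπD : ∀ d, π₀ (algebraMap D Q₀ d) = algebraMap D F d := fun d => by
    rw [IsScalarTower.algebraMap_apply D C Q₀, hπ₀, AlgHom.commutes]
  let inv₀ : Q₀ := IsLocalization.Away.invSelf c₀
  have hinv₀ : algebraMap C Q₀ c₀ * inv₀ = 1 := IsLocalization.Away.mul_invSelf c₀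
  let ψ₀ : MvPolynomial σ D →ₐ[D] Q₀ := aeval fun i => algebraMap C Q₀ (num i) * inv₀
  have hπψ : ∀ g, π₀ (ψ₀ g) = ev g := by
    have h1 : ({ π₀ with commutes' := hπD } : Q₀ →ₐ[D] F).comp ψ₀ = ev := algHom_ext fun i => by
      show π₀ (ψ₀ (X i)) = ev (X i)
      simp only [ψ₀, ev, aeval_X, map_mul, hπ₀, ← hnum]
      have h2 := congrArg π₀ hinv₀
      rw [map_mul, hπ₀, map_one] at h2
      rw [mul_assoc, h2, mul_one]
    exact fun g => DFunLike.congr_fun h1 g
  have hkill : ∀ q : Q₀, π₀ q = 0 → ∃ (d : D) (N : ℕ), d ≠ 0 ∧ d • q ^ N = 0 := by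
    intro q hq
    obtain ⟨x, ⟨_, m, rfl⟩, rfl⟩ := IsLocalization.exists_mk'_eq (Submonoid.powers c₀) q
    have h1 := congrArg π₀ (IsLocalization.mk'_spec Q₀ x (⟨c₀ ^ m, m, rfl⟩ : Submonoid.powers c₀))
    rw [map_mul, hq, zero_mul, hπ₀] at h1
    obtain ⟨d, N, hd, hdN⟩ := hι x h1.symm
    refine ⟨d, N, hd, ?_⟩
    rw [← IsLocalization.mk'_pow, Algebra.smul_def, IsScalarTower.algebraMap_apply D C Q₀,
      IsLocalization.mul_mk'_eq_mk'_of_mul, ← Algebra.smul_def, hdN, IsLocalization.mk'_zero]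
  obtain ⟨S, hS⟩ := (inferInstance : Algebra.FiniteType D C).out
  choose gg hh hhne hgh using hgenD
  let S' : Finset Q₀ := insert inv₀ (S.image (algebraMap C Q₀))
  let h₀ := ∏ x ∈ S', hh (π₀ x)
  have hh₀ : ev h₀ ≠ 0 := by
    rw [map_prod]; exact Finset.prod_ne_zero_iff.2 fun x _ => hhne _
  let g₁ : Q₀ → MvPolynomial σ D := fun x => gg (π₀ x) * ∏ y ∈ S'.erase x, hh (π₀ y)
  have hrel : ∀ x ∈ S', ∃ (d : D) (N : ℕ), d ≠ 0 ∧ d • (ψ₀ h₀ * x - ψ₀ (g₁ x)) ^ N = 0 := fun x hx => by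
    refine hkill _ ?_
    rw [map_sub, map_mul, hπψ, hπψ, show h₀ = hh (π₀ x) * ∏ y ∈ S'.erase x, hh (π₀ y) from
      (Finset.mul_prod_erase _ _ hx).symm, map_mul, map_mul, ← hgh (π₀ x)]
    ring
  have hG₀0 : ev G₀ = 0 := by
    rw [hev, hG₀, map_mul, show eK G = 0 from hGP, mul_zero]
  obtain ⟨dd, NN, hdd, hddN⟩ := hkill (ψ₀ G₀) (by rw [hπψ, hG₀0])
  choose! d₁ N₁ hd₁ hd₁N using hrel
  let dT := dd * ∏ x ∈ S', d₁ x
  have hdT : dT ≠ 0 := mul_ne_zero hdd (Finset.prod_ne_zero_iff.2 fun x hx => hd₁ x hx)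
  let h := MvPolynomial.C dT * h₀
  have hψh : ∀ f : MvPolynomial σ D →ₐ[D] Localization.Away c₀, f h = algebraMap D _ dT * f h₀ := fun f => by
    rw [map_mul, ← MvPolynomial.algebraMap_eq, AlgHom.commutes]
  have hevh : ev h ≠ 0 := by
    rw [map_mul, ← MvPolynomial.algebraMap_eq, AlgHom.commutes]
    exact mul_ne_zero (hι' c₀ dT hdT) hh₀
  obtain ⟨c₁, ⟨_, m, rfl⟩, hc₁⟩ := IsLocalization.exists_mk'_eq (Submonoid.powers c₀) (ψ₀ h)
  have hc₁ι : ι c₁ ≠ 0 := fun h0 => hevh (by
    have h1 := congrArg π₀ (IsLocalization.mk'_spec Q₀ c₁ (⟨c₀ ^ m, m, rfl⟩ : Submonoid.powers c₀))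
    rw [hc₁, map_mul, hπψ, hπ₀, hπ₀, h0] at h1
    exact (mul_eq_zero.1 h1).resolve_right (by rw [map_pow]; exact pow_ne_zero _ hc₀))
  let c := c₀ * c₁
  let Q := Localization.Away c
  have hcu : IsUnit (algebraMap C Q c₀) ∧ IsUnit (algebraMap C Q c₁) := by
    rw [← IsUnit.mul_iff, ← map_mul]; exact IsLocalization.Away.algebraMap_isUnit c
  let α₀ : Q₀ →+* Q := IsLocalization.Away.lift c₀ (g := algebraMap C Q) hcu.1
  have hα₀ : ∀ x, α₀ (algebraMap C Q₀ x) = algebraMap C Q x := fun x => IsLocalization.Away.lift_eq _ _ x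
  have hαD : ∀ d, α₀ (algebraMap D Q₀ d) = algebraMap D Q d := fun d => by
    rw [IsScalarTower.algebraMap_apply D C Q₀, hα₀, ← IsScalarTower.algebraMap_apply]
  let α : Q₀ →ₐ[D] Q := { α₀ with commutes' := hαD }
  let ψ := α.comp ψ₀
  have hhu : IsUnit (ψ h) := by
    have h1 := congrArg α₀ (IsLocalization.mk'_spec Q₀ c₁ (⟨c₀ ^ m, m, rfl⟩ : Submonoid.powers c₀))
    rw [hc₁, map_mul, hα₀, hα₀] at h1
    exact isUnit_of_mul_isUnit_left (y := algebraMap C Q (c₀ ^ m))
      (show IsUnit (α₀ (ψ₀ h) * _) from h1 ▸ hcu.2)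
  have hdu : ∀ d, d ∣ dT → IsUnit (algebraMap D Q d) := fun d hd => by
    refine isUnit_of_dvd_unit (map_dvd _ hd) ?_
    rw [show ψ h = algebraMap D Q dT * ψ h₀ by
      rw [map_mul, ← MvPolynomial.algebraMap_eq, AlgHom.commutes]] at hhu
    exact isUnit_of_mul_isUnit_left hhu
  have hnil : ∀ (q : Q₀) (d : D) (N : ℕ), d ∣ dT → d • q ^ N = 0 → IsNilpotent (α q) := fun q d N hd h0 => by
    refine ⟨N, (hdu d hd).mul_right_eq_zero.1 ?_⟩
    rw [← map_pow, ← AlgHom.commutes α d, ← map_mul, ← Algebra.smul_def, h0, map_zero]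
  let π := Ideal.Quotient.mkₐ D (nilradical Q)
  have hπ : ∀ q, π q = 0 ↔ IsNilpotent q := fun q => Ideal.Quotient.eq_zero_iff_mem.trans mem_nilradical
  let good : Subalgebra D Q :=
    { carrier := {q | ∃ (N : ℕ) (g : MvPolynomial σ D), π (ψ h) ^ N * π q = π (ψ g)}
      mul_mem' := by
        rintro a b ⟨N, g, e⟩ ⟨M, g', e'⟩
        refine ⟨N + M, g * g', ?_⟩
        rw [map_mul π a b, map_mul ψ g g', map_mul π (ψ g) (ψ g'), ← e, ← e']; ring
      add_mem' := by
        rintro a b ⟨N, g, e⟩ ⟨M, g', e'⟩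
        refine ⟨N + M, h ^ M * g + h ^ N * g', ?_⟩
        simp only [map_add, map_mul, map_pow, ← e, ← e']; ring
      algebraMap_mem' := fun d => ⟨0, MvPolynomial.C d, by
        rw [pow_zero, one_mul, ← MvPolynomial.algebraMap_eq, AlgHom.commutes, AlgHom.commutes, AlgHom.commutes]⟩ }
  have hS'good : ∀ x ∈ S', α x ∈ good := fun x hx => by
    refine ⟨1, MvPolynomial.C dT * g₁ x, ?_⟩
    rw [pow_one, ← map_mul, ← sub_eq_zero, ← map_sub, hπ, show ψ h = ψ (MvPolynomial.C dT) * ψ h₀ from map_mul ψ _ _,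
      map_mul ψ (MvPolynomial.C dT) (g₁ x), mul_assoc, ← mul_sub]
    have h1 : IsNilpotent (α (ψ₀ h₀ * x - ψ₀ (g₁ x))) := hnil _ (d₁ x) (N₁ x)
      ((Finset.dvd_prod_of_mem d₁ hx).mul_left dd) (hd₁N x hx)
    rw [map_sub, map_mul] at h1
    exact Commute.isNilpotent_mul_left (.all _ _) h1
  have hgoodinv : ∀ q : Q, ψ h * q = 1 → q ∈ good := fun q hq => ⟨1, 1, by
    rw [pow_one, ← map_mul, hq, map_one, map_one, map_one]⟩
  have htop : ∀ q : Q, q ∈ good := by
    have hC : ∀ x : C, algebraMap C Q x ∈ good := fun x => by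
      have : x ∈ Algebra.adjoin D (S : Set C) := hS ▸ trivial
      induction this using Algebra.adjoin_induction with
      | mem y hy => rw [← hα₀]; exact hS'good _ (Finset.mem_insert_of_mem (Finset.mem_image_of_mem _ hy))
      | algebraMap d => rw [← IsScalarTower.algebraMap_apply]; exact good.algebraMap_mem d
      | add a b _ _ ha hb => rw [map_add]; exact add_mem ha hb
      | mul a b _ _ ha hb => rw [map_mul]; exact mul_mem ha hb
    intro q
    obtain ⟨x, ⟨_, k, rfl⟩, rfl⟩ := IsLocalization.exists_mk'_eq (Submonoid.powers c) q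
    -- the inverse of `c`
    obtain ⟨w, hw⟩ := isUnit_iff_exists_inv.1 hhu
    have hinvc : algebraMap C Q c * (α inv₀ ^ (m + 1) * w) = 1 := by
      have h1 := congrArg α₀ (IsLocalization.mk'_spec Q₀ c₁ (⟨c₀ ^ m, m, rfl⟩ : Submonoid.powers c₀))
      rw [hc₁, map_mul, hα₀, hα₀, map_pow] at h1
      have h2 : algebraMap C Q c₀ * α inv₀ = 1 := by
        rw [← hα₀]
        show α (algebraMap C Q₀ c₀) * α inv₀ = 1
        rw [← map_mul, hinv₀, map_one]
      calc algebraMap C Q c * (α inv₀ ^ (m + 1) * w)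
          = (algebraMap C Q c₀ * α inv₀) ^ (m + 1) * (ψ h * w) := by
            rw [map_mul, ← h1, show α₀ (ψ₀ h) = ψ h from rfl]; ring
        _ = 1 := by rw [h2, hw, one_pow, mul_one]
    rw [show IsLocalization.mk' Q x (⟨c ^ k, k, rfl⟩ : Submonoid.powers c) =
      algebraMap C Q x * (α inv₀ ^ (m + 1) * w) ^ k from by
        rw [IsLocalization.mk'_eq_iff_eq_mul]
        show _ = _ * algebraMap C Q (c ^ k)
        rw [map_pow, mul_assoc, ← mul_pow, mul_comm _ (algebraMap C Q c), hinvc, one_pow, mul_one]]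
    exact mul_mem (hC x) (pow_mem (mul_mem (pow_mem (hS'good _ (Finset.mem_insert_self _ _)) _)
      (hgoodinv w hw)) _)
  have hιc : ι c ≠ 0 := by rw [map_mul]; exact mul_ne_zero hc₀ hc₁ι
  let πF : Q →+* F := IsLocalization.Away.lift c (g := ι.toRingHom) (isUnit_iff_ne_zero.2 hιc)
  have hπF : ∀ g, πF (ψ g) = ev g := fun g => by
    have : πF.comp α.toRingHom = π₀ := IsLocalization.ringHom_ext (Submonoid.powers c₀) (RingHom.ext fun x => by
      show πF (α₀ (algebraMap C Q₀ x)) = π₀ (algebraMap C Q₀ x)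
      rw [hα₀, hπ₀]
      exact IsLocalization.Away.lift_eq _ _ x)
    rw [← hπψ, ← this]
    rfl
  have hπFD : ∀ d, πF (algebraMap D Q d) = algebraMap D F d := fun d => by
    rw [← AlgHom.commutes ψ d, hπF, AlgHom.commutes]
  haveI : Algebra.FinitePresentation D Q :=
    haveI : Algebra.FinitePresentation C Q := IsLocalization.Away.finitePresentation c
    Algebra.FinitePresentation.trans D C Q
  have hassoc : Associated (MvPolynomial.map (algebraMap D K) G₀) G := by
    rw [hG₀]; exact associated_unit_mul_left _ _ (hunit dG hdG)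
  refine ⟨c, fun hn => ?_, irreducibleSpace_fibre_of_model ψ G₀ h hhu (hnil _ dd NN (dvd_mul_right _ _) hddN)
    (fun q => ?_) (fun g hg => ?_) ?_ ?_⟩
  · let Φ₀ : K ⊗[D] C →ₐ[D] F := Algebra.TensorProduct.lift (IsScalarTower.toAlgHom D K F) ι fun _ _ => .all _ _
    exact hιc ((by rw [Algebra.TensorProduct.lift_tmul, map_one, one_mul] : Φ₀ ((1 : K) ⊗ₜ[D] c) = ι c).symm.trans (hn.map Φ₀).eq_zero)
  · obtain ⟨N, g, e⟩ := htop q
    exact ⟨N, g, (hπ _).1 (by rw [map_sub, map_mul, map_pow, e, sub_self])⟩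
  · refine hassoc.dvd_iff_dvd_left.2 (hPK _ ?_)
    rw [← hev, ← hπF, (hg.map πF).eq_zero]
  · let eΩ := RingEquiv.ofBijective (algebraMap K (AlgebraicClosure K))
      (IsAlgClosed.algebraMap_bijective_of_isIntegral)
    rw [IsScalarTower.algebraMap_eq D K (AlgebraicClosure K), ← MvPolynomial.map_map]
    exact (MulEquiv.irreducible_iff (mapEquiv σ eΩ).toMulEquiv).2 (hassoc.irreducible_iff.2 hGp.irreducible)
  · intro hn
    let Φ : K ⊗[D] Q →ₐ[D] F := Algebra.TensorProduct.lift (IsScalarTower.toAlgHom D K F)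
      { πF with commutes' := hπFD } fun _ _ => .all _ _
    exact one_ne_zero ((by rw [Algebra.TensorProduct.lift_tmul, map_one, map_one, mul_one] :
      Φ ((1 : K) ⊗ₜ[D] (1 : Q)) = 1).symm.trans (hn.map Φ).eq_zero)

/-- A finitely presented algebra with irreducible generic fibre over a domain with algebraically closed fraction
field has an open with irreducible fibres at the field points of an open of the base. -/
theorem exists_open_irreducible_fibres {D C : Type u} [CommRing D] [IsDomain D] [IsAlgClosed (FractionRing D)]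
    [CommRing C] [Algebra D C] [Algebra.FinitePresentation D C]
    (hirr : IrreducibleSpace (PrimeSpectrum (FractionRing D ⊗[D] C))) :
    ∃ c : C, ¬ IsNilpotent ((1 : FractionRing D) ⊗ₜ[D] c) ∧ ∃ f : D, f ≠ 0 ∧
      ∀ (L : Type u) [Field L] [Algebra D L], algebraMap D L f ≠ 0 →
        IrreducibleSpace (PrimeSpectrum (L ⊗[D] Localization.Away c)) := by
  classical
  let K := FractionRing D
  let T₀ := K ⊗[D] C
  have hN : (nilradical T₀).IsPrime := PrimeSpectrum.irreducibleSpace_iff_isPrime_nilradical.1 hirr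
  haveI := hN
  haveI : Algebra.FiniteType K T₀ := inferInstance
  let E := T₀ ⧸ nilradical T₀
  haveI : Algebra.FiniteType K E := Algebra.FiniteType.trans ‹Algebra.FiniteType K T₀› inferInstance
  let F := FractionRing E
  haveI : Algebra.EssFiniteType K F := by
    haveI : Algebra.EssFiniteType K E := inferInstance
    haveI : Algebra.EssFiniteType E F := Algebra.EssFiniteType.of_isLocalization F (nonZeroDivisors E)
    exact Algebra.EssFiniteType.comp K E F
  let χ : T₀ →ₐ[K] F := (IsScalarTower.toAlgHom K E F).comp (Ideal.Quotient.mkₐ K (nilradical T₀))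
  let ι : C →ₐ[D] F := (χ.restrictScalars D).comp (Algebra.TensorProduct.includeRight : C →ₐ[D] T₀)
  have hι : ∀ x : C, ι x = 0 → ∃ (d : D) (N : ℕ), d ≠ 0 ∧ d • x ^ N = 0 := fun x hx => by
    have h1 : Ideal.Quotient.mk (nilradical T₀) ((1 : K) ⊗ₜ[D] x) = 0 :=
      IsFractionRing.injective E F (hx.trans (map_zero _).symm)
    rw [Ideal.Quotient.eq_zero_iff_mem, mem_nilradical] at h1
    obtain ⟨N, hN⟩ := h1
    rw [Algebra.TensorProduct.tmul_pow, one_pow] at hN
    obtain ⟨d, hd, hd'⟩ := FibDim4.exists_ne_zero_smul_eq_zero hN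
    exact ⟨d, N, hd, hd'⟩
  have hι' : ∀ (x : C) (d : D), d ≠ 0 → algebraMap D F d ≠ 0 := fun x d hd => by
    rw [IsScalarTower.algebraMap_apply D K F]
    exact (map_ne_zero _).2 fun h => hd (IsFractionRing.injective D K (h.trans (map_zero _).symm))
  have hfrac : ∀ z : F, ∃ a b : C, ι b ≠ 0 ∧ z * ι b = ι a := by
    intro z
    obtain ⟨e₁, e₂, he₂, rfl⟩ := IsFractionRing.div_surjective (A := E) z
    obtain ⟨t₁, rfl⟩ := Ideal.Quotient.mk_surjective e₁
    obtain ⟨t₂, rfl⟩ := Ideal.Quotient.mk_surjective e₂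
    obtain ⟨d₁, hd₁, c₁, hc₁⟩ := FibDim4.exists_denominator t₁
    obtain ⟨d₂, hd₂, c₂, hc₂⟩ := FibDim4.exists_denominator t₂
    have h : ∀ (d : D) (t : T₀) (c : C), algebraMap D K d • t = 1 ⊗ₜ[D] c →
        algebraMap D F d * χ t = ι c := fun d t c h => by
      rw [show ι c = χ (1 ⊗ₜ[D] c) from rfl, ← h, map_smul, Algebra.smul_def, ← IsScalarTower.algebraMap_apply]
    have hne : χ t₂ ≠ 0 := IsFractionRing.to_map_ne_zero_of_mem_nonZeroDivisors (R := E) he₂
    refine ⟨algebraMap D C d₂ * c₁, algebraMap D C d₁ * c₂, ?_, ?_⟩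
    · rw [map_mul, AlgHom.commutes, ← h _ _ _ hc₂]
      exact mul_ne_zero (hι' c₂ d₁ hd₁) (mul_ne_zero (hι' c₂ d₂ hd₂) hne)
    · rw [map_mul, map_mul, AlgHom.commutes, AlgHom.commutes, ← h _ _ _ hc₁, ← h _ _ _ hc₂]
      show χ t₁ / χ t₂ * (algebraMap D F d₁ * (algebraMap D F d₂ * χ t₂)) = algebraMap D F d₂ * (algebraMap D F d₁ * χ t₁)
      rw [← mul_assoc (algebraMap D F d₁), mul_comm (algebraMap D F d₁ * algebraMap D F d₂) (χ t₂), ← mul_assoc,
        div_mul_cancel₀ _ hne]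
      ring
  exact exists_open_irreducible_fibres_of_field ι hι hfrac

end Groth.Agent.GeomSpread4
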