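import Groth.Agent.Lib.FibDim4.Generic
import Mathlib.Algebra.MvPolynomial.Nilpotent
import Mathlib.Algebra.MvPolynomial.NoZeroDivisors
import Mathlib.RingTheory.Polynomial.UniqueFactorization
import Mathlib.FieldTheory.IsAlgClosed.AlgebraicClosure
import Mathlib.RingTheory.Jacobson.Ring

/-!
# Absolutely irreducible polynomials stay irreducible on an open set of specialisations
-/

universe u

open MvPolynomial TensorProduct

namespace Groth.Agent.GeomSpread4

variable {σ : Type u} [Finite σ] {A : Type u} [CommRing A] [IsDomain A]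

/-- the monomials of degree at most `d` -/
abbrev Mon (σ : Type u) (d : ℕ) : Type u := {m : σ →₀ ℕ // m.degree ≤ d}

theorem finite_mon (σ : Type u) [Finite σ] (d : ℕ) : Finite (Mon σ d) :=
  (Finsupp.finite_of_degree_le (σ := σ) d).to_subtype

theorem eq_sum_mon {L : Type u} [CommRing L] {d : ℕ} [Fintype (Mon σ d)] (p : MvPolynomial σ L)
    (hp : p.totalDegree ≤ d) : p = ∑ m : Mon σ d, monomial m.1 (p.coeff m.1) := by
  classical
  ext n
  rw [coeff_sum]
  simp only [coeff_monomial]
  by_cases hn : n.degree ≤ d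
  · rw [Finset.sum_eq_single (⟨n, hn⟩ : Mon σ d) (fun m _ hm => if_neg fun h => hm (Subtype.ext h))
      (fun h => absurd (Finset.mem_univ _) h), if_pos rfl]
  · rw [Finset.sum_eq_zero fun m _ => if_neg fun h : m.1 = n => hn (h ▸ m.2)]
    by_contra h
    exact hn ((le_totalDegree (Finsupp.mem_support_iff.2 h)).trans hp)

/-- A nontrivial algebra of finite type over a field has a point in an algebraically closed extension. -/
theorem exists_algHom_algClosed (K Ω T : Type u) [Field K] [Field Ω] [Algebra K Ω] [IsAlgClosed Ω] [CommRing T]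
    [Nontrivial T] [Algebra K T] [Algebra.FiniteType K T] : Nonempty (T →ₐ[K] Ω) := by
  obtain ⟨M, hM⟩ := Ideal.exists_maximal T
  letI := Ideal.Quotient.field M
  haveI : Algebra.FiniteType K (T ⧸ M) := Algebra.FiniteType.trans ‹Algebra.FiniteType K T› inferInstance
  haveI : Module.Finite K (T ⧸ M) := finite_of_finite_type_of_isJacobsonRing K _
  haveI : Algebra.IsAlgebraic K (T ⧸ M) := Algebra.IsAlgebraic.of_finite K _
  exact ⟨(IsAlgClosed.lift : T ⧸ M →ₐ[K] Ω).comp (Ideal.Quotient.mkₐ K M)⟩

/-- No factorisation of a given shape survives on an open set of specialisations. -/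
theorem exists_no_factor (P : MvPolynomial σ A) (d₁ d₂ : ℕ)
    (h : ∀ G H : MvPolynomial σ (AlgebraicClosure (FractionRing A)), G.totalDegree ≤ d₁ → H.totalDegree ≤ d₂ →
      G * H ≠ map (algebraMap A (AlgebraicClosure (FractionRing A))) P) :
    ∃ f : A, f ≠ 0 ∧ ∀ (L : Type u) [Field L] (φ : A →+* L), φ f ≠ 0 →
      ∀ G H : MvPolynomial σ L, G.totalDegree ≤ d₁ → H.totalDegree ≤ d₂ → G * H ≠ map φ P := by
  classical
  haveI := finite_mon σ d₁
  haveI := finite_mon σ d₂
  letI := Fintype.ofFinite (Mon σ d₁)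
  letI := Fintype.ofFinite (Mon σ d₂)
  let R := MvPolynomial (Mon σ d₁ ⊕ Mon σ d₂) A
  let G₀ : MvPolynomial σ R := ∑ m : Mon σ d₁, monomial m.1 (X (Sum.inl m))
  let H₀ : MvPolynomial σ R := ∑ m : Mon σ d₂, monomial m.1 (X (Sum.inr m))
  let E : MvPolynomial σ R := G₀ * H₀ - map (algebraMap A R) P
  let J : Ideal R := Ideal.span (Set.range fun m => E.coeff m)
  let C := R ⧸ J
  let K := FractionRing A
  let Ω := AlgebraicClosure K
  have hE : map (Ideal.Quotient.mk J) E = 0 := by
    ext m
    rw [coeff_map, coeff_zero, Ideal.Quotient.eq_zero_iff_mem]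
    exact Ideal.subset_span ⟨m, rfl⟩
  have hdeg : ∀ (L : Type u) [CommRing L] (d : ℕ) [Fintype (Mon σ d)] (c : Mon σ d → L),
      (∑ m : Mon σ d, monomial m.1 (c m)).totalDegree ≤ d := fun L _ d _ c =>
    totalDegree_finsetSum_le fun m _ => (totalDegree_monomial_le _ _).trans m.2
  -- the generic fibre of the scheme of factorisations is empty
  have hzero : (1 : K) ⊗ₜ[A] (1 : C) = 0 := by
    by_contra hne
    haveI : Nontrivial (K ⊗[A] C) := ⟨⟨1, 0, hne⟩⟩
    haveI : Algebra.FiniteType A C := Algebra.FiniteType.trans (inferInstance : Algebra.FiniteType A R) inferInstance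
    haveI : Algebra.FiniteType K (K ⊗[A] C) := inferInstance
    obtain ⟨M, hM⟩ := Ideal.exists_maximal (K ⊗[A] C)
    obtain ⟨j⟩ := exists_algHom_algClosed K Ω (K ⊗[A] C)
    let ψ : C →+* Ω := j.toRingHom.comp Algebra.TensorProduct.includeRight.toRingHom
    have hψ : ∀ a, ψ (algebraMap A C a) = algebraMap A Ω a := fun a => by
      show j ((Algebra.TensorProduct.includeRight : C →ₐ[A] K ⊗[A] C) (algebraMap A C a)) = _
      rw [AlgHom.commutes, IsScalarTower.algebraMap_apply A K (K ⊗[A] C), AlgHom.commutes,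
        ← IsScalarTower.algebraMap_apply]
    let ν : R →+* Ω := ψ.comp (Ideal.Quotient.mk J)
    refine h (map ν G₀) (map ν H₀) ?_ ?_ ?_
    · simp only [G₀, map_sum, map_monomial]; exact hdeg Ω d₁ _
    · simp only [H₀, map_sum, map_monomial]; exact hdeg Ω d₂ _
    · have h1 := congrArg (map ψ) hE
      rw [MvPolynomial.map_map, map_zero] at h1
      simp only [E, map_sub, map_mul, MvPolynomial.map_map, sub_eq_zero] at h1
      rw [h1]
      congr 2
      exact RingHom.ext fun a => hψ a
  obtain ⟨f, hf, hfC⟩ := FibDim4.exists_ne_zero_smul_eq_zero hzero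
  refine ⟨f, hf, fun L _ φ hφ G H hG hH hGH => hφ ?_⟩
  let ν : R →+* L := eval₂Hom φ (Sum.elim (fun m => G.coeff m.1) (fun m => H.coeff m.1))
  have hX : ∀ i, ν (X i) = Sum.elim (fun m => G.coeff m.1) (fun m => H.coeff m.1) i := fun i => eval₂Hom_X' _ _ i
  have hG₀ : map ν G₀ = G := by
    simp only [G₀, map_sum, map_monomial, hX, Sum.elim_inl]
    exact (eq_sum_mon G hG).symm
  have hH₀ : map ν H₀ = H := by
    simp only [H₀, map_sum, map_monomial, hX, Sum.elim_inr]
    exact (eq_sum_mon H hH).symm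
  have hν : ν.comp (algebraMap A R) = φ := RingHom.ext fun a => by simp [ν, R, MvPolynomial.algebraMap_eq]
  have hJ : J ≤ RingHom.ker ν := Ideal.span_le.2 (by
    rintro _ ⟨m, rfl⟩
    show ν (E.coeff m) = 0
    rw [← coeff_map]
    simp only [E, map_sub, map_mul, MvPolynomial.map_map, hG₀, hH₀, hν, hGH, sub_self, coeff_zero])
  let ψ : C →+* L := Ideal.Quotient.lift J ν hJ
  have h2 := congrArg ψ hfC
  rw [map_zero, Algebra.smul_def, map_mul, map_one, mul_one] at h2
  rw [← hν]
  exact h2

/-- EGA IV 9.7.4: a polynomial irreducible over the algebraic closure of the fraction field stays irreducible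
at the field points of a nonempty open. -/
theorem exists_irreducible_map (P : MvPolynomial σ A)
    (hP : Irreducible (map (algebraMap A (AlgebraicClosure (FractionRing A))) P)) :
    ∃ f : A, f ≠ 0 ∧ ∀ (L : Type u) [Field L] (φ : A →+* L), φ f ≠ 0 → Irreducible (map φ P) := by
  classical
  let Ω := AlgebraicClosure (FractionRing A)
  let ι := algebraMap A Ω
  have hι : Function.Injective ι := by
    simp only [ι, IsScalarTower.algebraMap_eq A (FractionRing A) Ω]
    exact (algebraMap (FractionRing A) Ω).injective.comp (IsFractionRing.injective A _)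
  let d := P.totalDegree
  have hd : (map ι P).totalDegree = d := by
    simp only [totalDegree, support_map_of_injective P hι, d]
  have hd0 : 0 < d := Nat.pos_of_ne_zero fun h0 => by
    rw [h0, totalDegree_eq_zero_iff_eq_C] at hd
    rcases eq_or_ne ((map ι P).coeff 0) 0 with h | h
    · exact hP.ne_zero (by rw [hd, h, map_zero])
    · exact hP.not_isUnit (hd ▸ (isUnit_iff_ne_zero.2 h).map C)
  obtain ⟨m, hm, hmd⟩ : ∃ m ∈ P.support, (m.sum fun _ e => e) = d := by
    have hne : P.support.Nonempty := support_nonempty.2 fun h => hP.ne_zero (by rw [h, map_zero])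
    obtain ⟨m, hm, hmd⟩ := Finset.exists_mem_eq_sup P.support hne fun s => s.sum fun _ e => e
    exact ⟨m, hm, hmd.symm⟩
  have hno : ∀ k : Fin (d - 1), ∀ G H : MvPolynomial σ Ω, G.totalDegree ≤ k.1 + 1 →
      H.totalDegree ≤ d - (k.1 + 1) → G * H ≠ map ι P := by
    intro k G H hG hH hGH
    have hk := k.2
    have hG0 : G ≠ 0 := fun h => hP.ne_zero (by rw [← hGH, h, zero_mul])
    have hH0 : H ≠ 0 := fun h => hP.ne_zero (by rw [← hGH, h, mul_zero])
    have h1 := totalDegree_mul_of_isDomain hG0 hH0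
    rw [hGH, hd] at h1
    rcases hP.isUnit_or_isUnit hGH.symm with h2 | h2 <;>
      have h3 := (isUnit_iff_totalDegree_of_isReduced.1 h2).2 <;> omega
  choose f hf hfac using fun k => exists_no_factor P (k.1 + 1) (d - (k.1 + 1)) (hno k)
  refine ⟨P.coeff m * ∏ k, f k, mul_ne_zero (Finsupp.mem_support_iff.1 hm)
    (Finset.prod_ne_zero_iff.2 fun k _ => hf k), fun L _ φ hφ => ?_⟩
  rw [map_mul, mul_ne_zero_iff, map_prod, Finset.prod_ne_zero_iff] at hφ
  have hdL : (map φ P).totalDegree = d := by
    refine le_antisymm ?_ ?_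
    · exact Finset.sup_mono (support_map_subset φ P)
    · rw [← hmd]
      exact le_totalDegree (mem_support_iff.2 (by rw [coeff_map]; exact hφ.1))
  refine ⟨fun hu => ?_, fun {G H} hGH => ?_⟩
  · have := (isUnit_iff_totalDegree_of_isReduced.1 hu).2
    omega
  by_contra hcon
  push Not at hcon
  have hne : map φ P ≠ 0 := fun h => by rw [h, totalDegree_zero] at hdL; omega
  have hG0 : G ≠ 0 := fun h => hne (by rw [hGH, h, zero_mul])
  have hH0 : H ≠ 0 := fun h => hne (by rw [hGH, h, mul_zero])
  have h1 := totalDegree_mul_of_isDomain hG0 hH0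
  rw [← hGH, hdL] at h1
  have hpos : ∀ Q : MvPolynomial σ L, Q ≠ 0 → ¬ IsUnit Q → 0 < Q.totalDegree := fun Q hQ hu =>
    Nat.pos_of_ne_zero fun h0 => hu (by
      rw [totalDegree_eq_zero_iff_eq_C.1 h0]
      refine IsUnit.map C (isUnit_iff_ne_zero.2 fun h => hQ ?_)
      rw [totalDegree_eq_zero_iff_eq_C.1 h0, h, map_zero])
  have h2 := hpos G hG0 hcon.1
  have h3 := hpos H hH0 hcon.2
  exact hfac ⟨G.totalDegree - 1, by omega⟩ L φ (hφ.2 _ (Finset.mem_univ _)) G H (by simp only; omega)
    (by simp only; omega) hGH.symm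

end Groth.Agent.GeomSpread4
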