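import Groth.Agent.Lib.GeomSpread4.Main
import Groth.Agent.Lib.GeomIrr18.Scheme
import Groth.Agent.Lib.GeomIrr18.Top
import Groth.Agent.Lib.RedSep.Basic

/-!
# The geometric components near a generic point
-/

universe u

open CategoryTheory CategoryTheory.Limits AlgebraicGeometry Topology TensorProduct TopologicalSpace

set_option backward.isDefEq.respectTransparency.types false

namespace Groth.Agent.GeomSpread4

variable {X Y : Scheme.{u}}

/-- The field point of the base given by an algebra structure. -/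
noncomputable abbrev tpt (A : Type u) [CommRing A] (L : Type u) [CommRing L] [Algebra A L] :
    Spec (CommRingCat.of L) ⟶ Spec (CommRingCat.of A) :=
  Spec.map (CommRingCat.ofHom (algebraMap A L))

variable {A : Type u} [CommRing A] [IsDomain A]

theorem tpt_generic (z : Spec (CommRingCat.of (FractionRing A))) : tpt A (FractionRing A) z = bot A :=
  PrimeSpectrum.ext (eq_bot_iff.2 fun a ha => Ideal.mem_bot.2 (by_contra fun h0 =>
    (z : PrimeSpectrum (FractionRing A)).2.ne_top (Ideal.eq_top_of_isUnit_mem _ ha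
      (isUnit_iff_ne_zero.2 fun hz => h0 (IsFractionRing.injective A (FractionRing A) (hz.trans (map_zero _).symm))))))

theorem notMem_of_ne_zero {L : Type u} [Field L] [Algebra A L] {d : A} (hd : algebraMap A L d ≠ 0)
    (z : Spec (CommRingCat.of L)) : d ∉ (tpt A L z : PrimeSpectrum A).asIdeal := fun hm =>
  (z : PrimeSpectrum L).2.ne_top (Ideal.eq_top_of_isUnit_mem _ (show algebraMap A L d ∈ _ from hm)
    (isUnit_iff_ne_zero.2 hd))

theorem range_fst_generic (f : X ⟶ Spec (CommRingCat.of A)) :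
    Set.range (pullback.fst f (tpt A (FractionRing A))) = f ⁻¹' {bot A} := by
  ext x
  constructor
  · rintro ⟨w, rfl⟩
    show f _ = bot A
    rw [← Scheme.Hom.comp_apply, pullback.condition, Scheme.Hom.comp_apply, tpt_generic]
  · intro hx
    obtain ⟨w, hw, -⟩ := Scheme.Pullback.exists_preimage_pullback (f := f) (g := tpt A (FractionRing A)) x
      (IsLocalRing.closedPoint (FractionRing A) : Spec (CommRingCat.of (FractionRing A)))
      (by rw [show f x = bot A from hx, tpt_generic])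
    exact ⟨w, hw⟩

set_option synthInstance.maxHeartbeats 200000 in
/-- Near the generic point every point of a scheme of finite type has a generization in the generic fibre. -/
theorem exists_generization (f : X ⟶ Spec (CommRingCat.of A)) [LocallyOfFiniteType f] [QuasiCompact f] :
    ∃ d : A, d ≠ 0 ∧ ∀ x : X, d ∉ (f x : PrimeSpectrum A).asIdeal → ∃ w, w ⤳ x ∧ f w = bot A := by
  classical
  haveI : CompactSpace X := QuasiCompact.compactSpace_of_compactSpace f
  let 𝒰 := X.affineCover.finiteSubcover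
  letI := Fintype.ofFinite 𝒰.I₀
  choose φ hφ using fun k => Spec.map_surjective (((𝒰.X k).isoSpec.inv ≫ 𝒰.f k) ≫ f)
  letI : ∀ k, Algebra A Γ(𝒰.X k, ⊤) := fun k => (φ k).hom.toAlgebra
  haveI : ∀ k, Algebra.FiniteType A Γ(𝒰.X k, ⊤) := fun k => by
    haveI h : LocallyOfFiniteType (Spec.map (φ k)) := by rw [hφ k]; infer_instance
    exact (HasRingHomProperty.Spec_iff (P := @LocallyOfFiniteType) (φ := φ k)).1 h
  choose c hc hfree using fun k => FlatH4.exists_free_and_finitePresentation (R := A) (S := Γ(𝒰.X k, ⊤))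
  refine ⟨∏ k, c k, Finset.prod_ne_zero_iff.2 fun k _ => hc k, fun x hx => ?_⟩
  obtain ⟨k, y₀, rfl⟩ : ∃ k, x ∈ Set.range (𝒰.f k) := ⟨_, 𝒰.covers x⟩
  obtain ⟨q, rfl⟩ := (𝒰.X k).isoSpec.inv.surjective y₀
  have hfq : ∀ r, f (𝒰.f k ((𝒰.X k).isoSpec.inv r)) = Spec.map (φ k) r := fun r => by
    rw [hφ k]; simp only [Scheme.Hom.comp_apply]
  rw [hfq] at hx
  let S := Γ(𝒰.X k, ⊤)
  have hq : c k ∉ ((q : PrimeSpectrum S).asIdeal.comap (algebraMap A S)) := fun h =>
    hx (Ideal.mem_of_dvd _ (Finset.dvd_prod_of_mem c (Finset.mem_univ k)) h)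
  let R' := Localization.Away (c k)
  have hcu : IsUnit (algebraMap A R' (c k)) := IsLocalization.Away.algebraMap_isUnit (c k)
  haveI := (hfree k R' hcu).1
  obtain ⟨q', hq'⟩ : ∃ q' : PrimeSpectrum (R' ⊗[A] S),
      PrimeSpectrum.comap (Algebra.TensorProduct.includeRight : S →ₐ[A] R' ⊗[A] S).toRingHom q' = q := by
    let U := Localization.AtPrime (q : PrimeSpectrum S).asIdeal
    have hu : IsUnit (algebraMap A U (c k)) :=
      (IsScalarTower.algebraMap_apply A S U _).symm ▸
        IsLocalization.map_units U (⟨algebraMap A S (c k), hq⟩ : (q : PrimeSpectrum S).asIdeal.primeCompl)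
    let α : R' →ₐ[A] U := { IsLocalization.Away.lift (c k) (g := algebraMap A U) hu with
      commutes' := fun a => IsLocalization.Away.lift_eq _ _ a }
    let β : S →ₐ[A] U := IsScalarTower.toAlgHom A S U
    let Φ : R' ⊗[A] S →ₐ[A] U := Algebra.TensorProduct.lift α β fun _ _ => .all _ _
    refine ⟨PrimeSpectrum.comap Φ.toRingHom (IsLocalRing.closedPoint U), ?_⟩
    rw [← PrimeSpectrum.comap_comp_apply,
      show Φ.toRingHom.comp (Algebra.TensorProduct.includeRight : S →ₐ[A] R' ⊗[A] S).toRingHom = algebraMap S U from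
        RingHom.ext fun a => by simp [Φ, β]]
    exact PrimeSpectrum.ext (IsLocalization.AtPrime.comap_maximalIdeal U _)
  obtain ⟨m, hm, hmle⟩ := Ideal.exists_minimalPrimes_le (I := (⊥ : Ideal (R' ⊗[A] S))) (J := q'.asIdeal) bot_le
  haveI := hm.1.1
  have hcomap : (m.comap (algebraMap A (R' ⊗[A] S))) = ⊥ := by
    refine eq_bot_iff.2 fun a ha => Ideal.mem_bot.2 (by_contra fun ha0 => ?_)
    refine Set.disjoint_left.1 (Ideal.disjoint_nonZeroDivisors_of_mem_minimalPrimes hm) ha ?_
    rw [Ideal.mem_comap, IsScalarTower.algebraMap_apply A R' (R' ⊗[A] S)] at ha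
    refine mem_nonZeroDivisors_iff_right.2 fun z hz => ?_
    rw [IsScalarTower.algebraMap_apply A R' (R' ⊗[A] S), mul_comm, ← Algebra.smul_def] at hz
    haveI : IsDomain R' := IsLocalization.isDomain_localization
      (powers_le_nonZeroDivisors_of_noZeroDivisors (hc k))
    exact (smul_eq_zero.1 hz).resolve_left fun h0 => ha0
      (IsLocalization.injective R' (powers_le_nonZeroDivisors_of_noZeroDivisors (hc k)) (h0.trans (map_zero _).symm))
  let w : Spec S := PrimeSpectrum.comap (Algebra.TensorProduct.includeRight : S →ₐ[A] R' ⊗[A] S).toRingHom ⟨m, inferInstance⟩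
  refine ⟨𝒰.f k ((𝒰.X k).isoSpec.inv w), ((((PrimeSpectrum.le_iff_specializes (w : PrimeSpectrum S) q).1 ?_).map
    (𝒰.X k).isoSpec.inv.continuous).map (𝒰.f k).continuous), ?_⟩
  · rw [← hq']; exact Ideal.comap_mono hmle
  · rw [hfq]
    refine PrimeSpectrum.ext ?_
    show ((m.comap (Algebra.TensorProduct.includeRight : S →ₐ[A] R' ⊗[A] S).toRingHom).comap (algebraMap A S)) = ⊥
    rw [Ideal.comap_comap]
    refine Eq.trans (congrArg (fun ψ => Ideal.comap ψ m) (RingHom.ext fun a => ?_)) hcomap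
    exact (Algebra.TensorProduct.includeRight : S →ₐ[A] R' ⊗[A] S).commutes a

variable [IsAlgClosed (FractionRing A)]

/-- A scheme of finite type with irreducible generic fibre has irreducible fibres over an open. -/
theorem exists_good (g : Y ⟶ Spec (CommRingCat.of A)) [LocallyOfFiniteType g] [QuasiCompact g]
    [hg : IrreducibleSpace ↥(pullback g (tpt A (FractionRing A)))] :
    ∃ d : A, d ≠ 0 ∧ ∀ (L : Type u) [Field L] [Algebra A L], algebraMap A L d ≠ 0 →
      IrreducibleSpace ↥(pullback g (tpt A L)) := by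
  let K := FractionRing A
  haveI := GeomIrr.geometricallyIrreducible_of_isSepClosed (pullback.snd g (tpt A K))
  let η := genericPoint ↥(Spec (CommRingCat.of A))
  have hη : (η : PrimeSpectrum A).asIdeal = ⊥ := by
    have h1 : (bot A) ⤳ η := (PrimeSpectrum.le_iff_specializes (⟨⊥, Ideal.isPrime_bot⟩ : PrimeSpectrum A) η).1 bot_le
    rw [← (h1.antisymm (genericPoint_specializes _)).eq]
  have h : GeometricallyIrreducible (g.fiberToSpecResidueField η) := by
    refine ⟨geometrically_iff_of_isClosedUnderIsomorphisms.2 fun L _ y => ?_⟩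
    obtain ⟨ψ, hψ⟩ := Spec.map_surjective (y ≫ (Spec (CommRingCat.of A)).fromSpecResidueField η)
    have hinj : Function.Injective ψ.hom := (RingHom.injective_iff_ker_eq_bot _).2 (eq_bot_iff.2 fun a ha => by
      have h1 : (Spec.map ψ) (IsLocalRing.closedPoint L : Spec (CommRingCat.of L)) = η := by
        rw [hψ, Scheme.Hom.comp_apply, Scheme.fromSpecResidueField_apply]
      have h2 : a ∈ ((Spec.map ψ) (IsLocalRing.closedPoint L : Spec (CommRingCat.of L)) : PrimeSpectrum A).asIdeal := by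
        show ψ.hom a ∈ (IsLocalRing.closedPoint L : PrimeSpectrum L).asIdeal
        rw [show ψ.hom a = 0 from ha]; exact zero_mem _
      rw [h1, hη] at h2
      exact h2)
    let e : K →+* L := IsFractionRing.lift hinj
    have he : Spec.map (CommRingCat.ofHom e) ≫ tpt A K = Spec.map ψ := by
      rw [← Spec.map_comp]
      exact congrArg Spec.map (CommRingCat.hom_ext (RingHom.ext fun a => IsFractionRing.lift_algebraMap hinj a))
    show IrreducibleSpace ↥(pullback (pullback.snd g _) y)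
    rw [(pullbackLeftPullbackSndIso g _ y ≪≫ pullback.congrHom rfl (hψ.symm.trans he.symm) ≪≫
      (pullbackLeftPullbackSndIso g (tpt A K) (Spec.map (CommRingCat.ofHom e))).symm).hom.homeomorph.irreducibleSpace_iff]
    exact (geometrically_iff_of_isClosedUnderIsomorphisms.1
      (inferInstance : GeometricallyIrreducible (pullback.snd g (tpt A K))).geometrically_irreducibleSpace) L _
  obtain ⟨V, hV, hVg⟩ := exists_geometricallyIrreducible g h
  obtain ⟨p, hp⟩ := hV
  obtain ⟨_, ⟨_, ⟨d, rfl⟩, rfl⟩, hd, hdV⟩ := PrimeSpectrum.isBasis_basic_opens.exists_subset_of_mem_open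
    (show bot A ∈ (V : Set ↥(Spec (CommRingCat.of A))) from
      ((PrimeSpectrum.le_iff_specializes (⟨⊥, Ideal.isPrime_bot⟩ : PrimeSpectrum A) p).1 bot_le).mem_open V.2 hp) V.2
  refine ⟨d, fun h0 => hd (by simp [h0]), fun L _ _ hdL => ?_⟩
  let y : Spec (CommRingCat.of L) ⟶ (V : Scheme.{u}) := IsOpenImmersion.lift V.ι (tpt A L) (by
    rintro _ ⟨z, rfl⟩
    rw [Scheme.Opens.range_ι]
    exact hdV (notMem_of_ne_zero hdL z))
  have hy : y ≫ V.ι = tpt A L := IsOpenImmersion.lift_fac _ _ _
  haveI : IrreducibleSpace ↥(pullback (g ∣_ V) y) :=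
    (geometrically_iff_of_isClosedUnderIsomorphisms.1 hVg.geometrically_irreducibleSpace) L y
  let e : pullback (g ∣_ V) y ≅ pullback g (y ≫ V.ι) :=
    (((IsPullback.of_hasPullback (g ∣_ V) y).flip.paste_vert (isPullback_morphismRestrict g V)).flip.isoPullback)
  rw [← (e ≪≫ pullback.congrHom rfl hy).hom.homeomorph.irreducibleSpace_iff]
  infer_instance

omit [IsAlgClosed (FractionRing A)] in
theorem isIrreducible_closure_inter {α : Type*} [TopologicalSpace α] {ξ : α} {S : Set α} (h : ξ ∈ S) :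
    IsIrreducible (closure ({ξ} : Set α) ∩ S) :=
  ⟨⟨ξ, subset_closure rfl, h⟩, fun _ _ hu hv ⟨_, ⟨ha, _⟩, hau⟩ ⟨_, ⟨hb, _⟩, hbv⟩ =>
    ⟨ξ, ⟨subset_closure rfl, h⟩, (specializes_iff_mem_closure.2 ha).mem_open hu hau,
      (specializes_iff_mem_closure.2 hb).mem_open hv hbv⟩⟩

/-- The closure of a point of the generic fibre has irreducible fibres over an open. -/
theorem exists_good_closure (f : X ⟶ Spec (CommRingCat.of A)) [LocallyOfFiniteType f] [QuasiCompact f]
    {ξ : X} (hξ : f ξ = bot A) :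
    ∃ d : A, d ≠ 0 ∧ ∀ (L : Type u) [Field L] [Algebra A L], algebraMap A L d ≠ 0 →
      IsIrreducible (pullback.fst f (tpt A L) ⁻¹' closure {ξ}) := by
  let I := Scheme.IdealSheafData.vanishingIdeal (⟨closure {ξ}, isClosed_closure⟩ : Closeds X)
  have hr : Set.range I.subschemeι = closure {ξ} := by
    rw [Scheme.IdealSheafData.range_subschemeι, Scheme.IdealSheafData.coe_support_vanishingIdeal]
    rfl
  let g := I.subschemeι ≫ f
  let K := FractionRing A
  haveI : IrreducibleSpace ↥(pullback g (tpt A K)) := by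
    obtain ⟨q, -, -, hq, hqp⟩ := GeomIrr.exists_bcMap f (tpt A K) I.subschemeι
    haveI := hqp inferInstance
    haveI : IsPreimmersion (tpt A K) := IsPreimmersion.of_isLocalization (nonZeroDivisors A)
    let p := pullback.fst f (tpt A K)
    have h1 : IsEmbedding (p ∘ q) := p.isEmbedding.comp q.isEmbedding
    have h2 : Set.range (p ∘ q) = closure {ξ} ∩ f ⁻¹' {bot A} := by
      rw [Set.range_comp, hq, hr, Set.image_preimage_eq_inter_range, range_fst_generic]
    have h3 := isIrreducible_closure_inter (S := f ⁻¹' {bot A}) (ξ := ξ) hξ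
    rw [← h2] at h3
    haveI := Subtype.preirreducibleSpace h3.isPreirreducible
    haveI : Nonempty (Set.range (p ∘ q)) := h3.nonempty.to_subtype
    haveI : IrreducibleSpace (Set.range (p ∘ q)) := ⟨inferInstance⟩
    exact h1.toHomeomorph.irreducibleSpace_iff.2 inferInstance
  obtain ⟨d, hd, hL⟩ := exists_good g
  refine ⟨d, hd, fun L _ _ hdL => ?_⟩
  obtain ⟨q, -, -, hq, -⟩ := GeomIrr.exists_bcMap f (tpt A L) I.subschemeι
  haveI := hL L hdL
  rw [← hr, ← hq, ← Set.image_univ]
  exact (IrreducibleSpace.isIrreducible_univ _).image _ q.continuous.continuousOn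

/-- EGA IV 9.7.8, over a domain with algebraically closed fraction field: near the generic point the
geometric fibres have the same configuration of irreducible components. -/
theorem exists_strata_gen (f : X ⟶ Spec (CommRingCat.of A)) [LocallyOfFiniteType f] [QuasiCompact f] :
    ∃ (ι : Type u) (_ : Finite ι) (Z : ι → Set X) (d : A), d ≠ 0 ∧
      ((∀ i, IsClosed (Z i)) ∧ ∀ i, ∃ ξ, f ξ = bot A ∧ Z i = closure {ξ}) ∧
      ∀ (L : Type u) [Field L] [Algebra A L], algebraMap A L d ≠ 0 →
        (∀ i, IsIrreducible (pullback.fst f (tpt A L) ⁻¹' Z i)) ∧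
        (∀ w, ∃ i, pullback.fst f (tpt A L) w ∈ Z i) ∧
        (∀ i j, pullback.fst f (tpt A L) ⁻¹' Z i ⊆ pullback.fst f (tpt A L) ⁻¹' Z j → i = j) ∧
        (∀ i j, (pullback.fst f (tpt A L) ⁻¹' (Z i ∩ Z j)).Nonempty ↔ ∃ x ∈ Z i ∩ Z j, f x = bot A) := by
  classical
  let K := FractionRing A
  let F := pullback f (tpt A K)
  let p := pullback.fst f (tpt A K)
  haveI : IsPreimmersion (tpt A K) := IsPreimmersion.of_isLocalization (nonZeroDivisors A)
  haveI : LocallyOfFiniteType (pullback.snd f (tpt A K)) := inferInstance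
  haveI : IsLocallyNoetherian F := LocallyOfFiniteType.isLocallyNoetherian (pullback.snd f (tpt A K))
  haveI : CompactSpace F := QuasiCompact.compactSpace_of_compactSpace (pullback.snd f (tpt A K))
  haveI : IsNoetherian F := {}
  let ι := ↥(irreducibleComponents ↥F)
  haveI : Finite ι := TopologicalSpace.NoetherianSpace.finite_irreducibleComponents.to_subtype
  letI := Fintype.ofFinite ι
  let z : ι → X := fun i => p i.2.1.genericPoint
  let Z : ι → Set X := fun i => closure {z i}
  have hz : ∀ i, f (z i) = bot A := fun i => (range_fst_generic f).le ⟨_, rfl⟩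
  have hpre : ∀ i, p ⁻¹' Z i = (i : Set ↥F) := fun i => by
    have h1 := i.2.1.isGenericPoint_genericPoint_closure
    rw [(isClosed_of_mem_irreducibleComponents _ i.2).closure_eq] at h1
    show p ⁻¹' closure {p _} = _
    rw [← Set.image_singleton, ← p.isEmbedding.isInducing.closure_eq_preimage_closure_image]
    exact h1
  -- coverage near the generic point
  obtain ⟨d₀, hd₀, hgen⟩ := exists_generization f
  have hcov : ∀ x : X, d₀ ∉ (f x : PrimeSpectrum A).asIdeal → ∃ i, x ∈ Z i := by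
    intro x hx
    obtain ⟨w, hwx, hw⟩ := hgen x hx
    obtain ⟨w', rfl⟩ := (range_fst_generic f).ge hw
    refine ⟨⟨irreducibleComponent w', irreducibleComponent_mem_irreducibleComponents w'⟩, ?_⟩
    have h1 : w' ∈ p ⁻¹' Z ⟨irreducibleComponent w', irreducibleComponent_mem_irreducibleComponents w'⟩ := by
      rw [hpre]; exact mem_irreducibleComponent
    exact hwx.mem_closed isClosed_closure h1
  -- irreducibility
  choose d₁ hd₁ h₁ using fun i => exists_good_closure f (hz i)
  -- no inclusion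
  have hsep : ∀ ij : ι × ι, ∃ d : A, d ≠ 0 ∧ (ij.1 ≠ ij.2 → ∀ (L : Type u) [Field L] [Algebra A L],
      algebraMap A L d ≠ 0 → ¬ (pullback.fst f (tpt A L) ⁻¹' Z ij.1 ⊆ pullback.fst f (tpt A L) ⁻¹' Z ij.2)) := by
    intro ⟨i, j⟩
    by_cases hij : i = j
    · exact ⟨1, one_ne_zero, fun h => absurd hij h⟩
    have hzj : z i ∉ Z j := fun h => hij (Subtype.ext (i.2.eq_of_subset j.2.1 (by
      rw [← hpre i, ← hpre j]
      exact Set.preimage_mono (closure_minimal (Set.singleton_subset_iff.2 h) isClosed_closure))))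
    obtain ⟨W, hW, hzW, hWj⟩ := exists_isAffineOpen_mem_and_subset (X := X) (x := z i)
      (U := ⟨(Z j)ᶜ, isClosed_closure.isOpen_compl⟩) hzj
    haveI : IsAffine (W : Scheme.{u}) := hW
    let z' : (W : Scheme.{u}) := ⟨z i, hzW⟩
    obtain ⟨d, hd, hL⟩ := exists_good_closure (W.ι ≫ f) (ξ := z') (hz i)
    refine ⟨d, hd, fun _ L _ _ hdL hsub => ?_⟩
    obtain ⟨w, hw⟩ := (hL L hdL).1
    obtain ⟨q, hqfst, -, -, -⟩ := GeomIrr.exists_bcMap f (tpt A L) W.ι
    have hqw : pullback.fst f (tpt A L) (q w) = W.ι (pullback.fst (W.ι ≫ f) (tpt A L) w) := by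
      rw [← Scheme.Hom.comp_apply, hqfst, Scheme.Hom.comp_apply]
    refine hWj (pullback.fst (W.ι ≫ f) (tpt A L) w).2 ?_
    show W.ι (pullback.fst (W.ι ≫ f) (tpt A L) w) ∈ Z j
    rw [← hqw]
    refine hsub (show pullback.fst f (tpt A L) (q w) ∈ Z i from ?_)
    rw [hqw]
    have h := image_closure_subset_closure_image W.ι.continuous ⟨_, hw, rfl⟩
    rw [Set.image_singleton] at h
    exact h
  choose d₂ hd₂ h₂ using hsep
  -- the intersections
  have hmeet : ∀ ij : ι × ι, ∃ d : A, d ≠ 0 ∧ ∀ (L : Type u) [Field L] [Algebra A L], algebraMap A L d ≠ 0 →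
      ((pullback.fst f (tpt A L) ⁻¹' (Z ij.1 ∩ Z ij.2)).Nonempty ↔ ∃ x ∈ Z ij.1 ∩ Z ij.2, f x = bot A) := by
    intro ⟨i, j⟩
    by_cases hne : ∃ x ∈ Z i ∩ Z j, f x = bot A
    · obtain ⟨x, hx, hfx⟩ := hne
      obtain ⟨d, hd, hL⟩ := exists_good_closure f hfx
      refine ⟨d, hd, fun L _ _ hdL => ⟨fun _ => ⟨x, hx, hfx⟩, fun _ => (hL L hdL).1.mono (Set.preimage_mono ?_)⟩⟩
      exact closure_minimal (Set.singleton_subset_iff.2 hx) (isClosed_closure.inter isClosed_closure)
    · let I := Scheme.IdealSheafData.vanishingIdeal (⟨Z i ∩ Z j, isClosed_closure.inter isClosed_closure⟩ : Closeds X)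
      have hr : Set.range I.subschemeι = Z i ∩ Z j := by
        rw [Scheme.IdealSheafData.range_subschemeι, Scheme.IdealSheafData.coe_support_vanishingIdeal]
        rfl
      obtain ⟨d, hd, hg⟩ := exists_generization (I.subschemeι ≫ f)
      refine ⟨d, hd, fun L _ _ hdL => ⟨fun ⟨w, hw⟩ => ?_, fun h => absurd h hne⟩⟩
      obtain ⟨a, ha⟩ := hr.ge hw
      obtain ⟨a', -, ha'⟩ := hg a (by
        rw [Scheme.Hom.comp_apply, ha, ← Scheme.Hom.comp_apply, pullback.condition, Scheme.Hom.comp_apply]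
        exact notMem_of_ne_zero hdL _)
      exact absurd ⟨_, hr.le ⟨a', rfl⟩, ha'⟩ hne
  choose d₃ hd₃ h₃ using hmeet
  refine ⟨ι, inferInstance, Z, d₀ * (∏ i, d₁ i) * (∏ ij, d₂ ij) * ∏ ij, d₃ ij,
    mul_ne_zero (mul_ne_zero (mul_ne_zero hd₀ (Finset.prod_ne_zero_iff.2 fun i _ => hd₁ i))
      (Finset.prod_ne_zero_iff.2 fun i _ => hd₂ i)) (Finset.prod_ne_zero_iff.2 fun i _ => hd₃ i),
    ⟨fun i => isClosed_closure, fun i => ⟨z i, hz i, rfl⟩⟩, fun L _ _ hd => ?_⟩
  simp only [map_mul, map_prod, mul_ne_zero_iff, Finset.prod_ne_zero_iff, Finset.mem_univ, true_implies] at hd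
  refine ⟨fun i => h₁ i L (hd.1.1.2 i), fun w => hcov _ ?_, fun i j hsub => ?_, fun i j => h₃ (i, j) L (hd.2 _)⟩
  · rw [← Scheme.Hom.comp_apply, pullback.condition, Scheme.Hom.comp_apply]
    exact notMem_of_ne_zero hd.1.1.1 _
  · by_contra hij
    exact h₂ (i, j) hij L (hd.1.2 _) hsub

/-- EGA IV 9.7.8, over a domain with algebraically closed fraction field: the configuration of the components. -/
theorem exists_strata (f : X ⟶ Spec (CommRingCat.of A)) [LocallyOfFiniteType f] [QuasiCompact f] :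
    ∃ (ι : Type u) (_ : Finite ι) (Z : ι → Set X) (d : A), d ≠ 0 ∧ (∀ i, IsClosed (Z i)) ∧
      ∀ (L : Type u) [Field L] [Algebra A L], algebraMap A L d ≠ 0 →
        (∀ i, IsIrreducible (pullback.fst f (tpt A L) ⁻¹' Z i)) ∧
        (∀ w, ∃ i, pullback.fst f (tpt A L) w ∈ Z i) ∧
        (∀ i j, pullback.fst f (tpt A L) ⁻¹' Z i ⊆ pullback.fst f (tpt A L) ⁻¹' Z j → i = j) ∧
        (∀ i j, (pullback.fst f (tpt A L) ⁻¹' (Z i ∩ Z j)).Nonempty ↔ ∃ x ∈ Z i ∩ Z j, f x = bot A) := by
  obtain ⟨ι, hι, Z, d, hd, ⟨hZ, -⟩, h⟩ := exists_strata_gen f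
  exact ⟨ι, hι, Z, d, hd, hZ, h⟩

end Groth.Agent.GeomSpread4
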